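import Cfsg.Agent.OddOrder.BG10.PLengthOne
import Cfsg.Agent.OddOrder.BG5.Basic
import Cfsg.Agent.Transfer.NormalPComplement
import Cfsg.Agent.S1448
import Cfsg.Agent.S1455

/-!
# BG 10.7 (b) and 10.9: rank two Sylow subgroups, and the core `M_β`
-/

set_option autoImplicit false
set_option linter.style.haveILetI false
set_option linter.unusedSectionVars false

namespace CfsgLib.OddOrder

open Cfsg Subgroup
open scoped commutatorElement
open CfsgLib.ConjFunctor (IsSylowIn exists_isSylowIn_ge)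

universe u

/-- In a nonabelian group of order `p³` the derived group is the centre. -/
theorem commutator_eq_inf_centralizer_of_card_cube {G : Type*} [Group G] [Finite G] {p : ℕ}
    [Fact p.Prime] {R : Subgroup G} (hc : Nat.card R = p ^ 3) (hn : ¬ IsMulCommutative R) :
    ⁅R, R⁆ = R ⊓ centralizer (R : Set G) := by
  have hp1 := (Fact.out : p.Prime).one_lt
  haveI : Group.IsNilpotent R := (IsPGroup.of_card hc).isNilpotent
  obtain ⟨k, hk0, hk⟩ := IsPGroup.card_center_eq_prime_pow hc (by omega : 0 < 3)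
  have hcard : Nat.card (R ⧸ center R) * p ^ k = p ^ 3 := by
    rw [← hk, ← hc]; exact (card_eq_card_quotient_mul_card_subgroup _).symm
  have hk3 : k ≤ 3 := (Nat.pow_le_pow_iff_right hp1).1 (hk ▸ hc ▸ card_le_card_group (center R))
  have hq : Nat.card (R ⧸ center R) = p ^ (3 - k) :=
    Nat.eq_of_mul_eq_mul_right (pow_pos (Fact.out : p.Prime).pos k)
      (by rw [hcard, ← pow_add, Nat.sub_add_cancel hk3])
  have hk1 : k = 1 := by
    by_contra hne
    refine hn ⟨⟨?_⟩⟩
    haveI : IsCyclic (R ⧸ center R) := by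
      rcases (show k = 2 ∨ k = 3 by omega) with rfl | rfl
      · exact isCyclic_of_prime_card (p := p) (by rw [hq, pow_one])
      · haveI : Subsingleton (R ⧸ center R) :=
          (Nat.card_eq_one_iff_unique.1 (by rw [hq, Nat.sub_self, pow_zero])).1
        infer_instance
    exact fun a b => commutative_of_cyclic_center_quotient (QuotientGroup.mk' (center R))
      (QuotientGroup.ker_mk' _).le a b
  subst hk1
  have hle : commutator R ≤ center R := by
    have hcomm := IsPGroup.commutative_of_card_eq_prime_sq (p := p) hq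
    rw [commutator_eq_closure, Subgroup.closure_le]
    rintro _ ⟨g, h, rfl⟩
    rw [SetLike.mem_coe, ← QuotientGroup.eq_one_iff, ← QuotientGroup.mk'_apply,
      map_commutatorElement, commutatorElement_eq_one_iff_mul_comm]
    exact hcomm _ _
  have hne : commutator R ≠ ⊥ := fun h => hn ⟨⟨fun a b => by
    have h1 : ⁅a, b⁆ ∈ commutator R := commutator_mem_commutator (mem_top a) (mem_top b)
    rw [h, mem_bot] at h1
    exact commutatorElement_eq_one_iff_mul_comm.1 h1⟩⟩
  have heq : commutator R = center R := by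
    refine eq_of_le_of_card_ge hle ?_
    rw [hk, pow_one]
    obtain ⟨j, hj⟩ := IsPGroup.iff_card.1 ((IsPGroup.of_card hc).to_subgroup (commutator R))
    rw [hj]
    refine Nat.le_self_pow (fun h0 => hne (card_eq_one.1 ?_)) p
    rw [hj, h0, pow_zero]
  rw [← map_subtype_commutator, heq]
  ext x
  refine ⟨?_, fun hx => ⟨⟨x, hx.1⟩, ?_, rfl⟩⟩
  · rintro ⟨y, hy, rfl⟩
    exact ⟨y.2, mem_centralizer_iff.2 fun z hz =>
      congrArg Subtype.val (mem_center_iff.1 hy ⟨z, hz⟩)⟩
  · exact mem_center_iff.2 fun z => Subtype.ext (mem_centralizer_iff.1 hx.2 z z.2)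

/-- A `p`-group with a maximal elementary abelian subgroup of order `p²` is narrow. -/
theorem isNarrow_of_maximal_plane {R : Type u} [Group R] [Finite R] {p : ℕ} [Fact p.Prime]
    (hp2 : p ≠ 2) (hR : IsPGroup p R) {E : Subgroup R} (hE : Cfsg.IsElementaryAbelian p E)
    (hE2 : Nat.card E = p ^ 2)
    (hmax : ∀ B : Subgroup R, Cfsg.IsElementaryAbelian p B → E ≤ B → B = E) :
    Cfsg.IsNarrow p R := by
  by_cases hr : Cfsg.PRankLE p 2 R
  · exact Or.inl hr
  obtain ⟨hET, hZ, -, hTc, hTi, -, hkey⟩ :=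
    BG5.structure_of_maximal_elementary hp2 hR hr E hE hE2 hmax
  obtain ⟨r, hrE, hrT⟩ := SetLike.not_le_iff_exists.1 hET
  set T := centralizer (BG5.omegaZ2 p R : Set R) with hT
  haveI := hTc
  have hr1 : r ≠ 1 := fun h => hrT (h ▸ one_mem _)
  have hro : orderOf r = p := orderOf_eq_prime (hE.2 r hrE) hr1
  have htop : zpowers r ⊔ T = ⊤ := by
    have hlt : T < zpowers r ⊔ T :=
      lt_of_le_of_ne le_sup_right fun h => hrT (h ▸ mem_sup_left (mem_zpowers r))
    by_contra hne
    have h1 := relIndex_mul_index hlt.le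
    rw [hTi] at h1
    have hd : (zpowers r ⊔ T).index ∣ p := ⟨_, (h1.symm.trans (mul_comm _ _))⟩
    rcases (Nat.dvd_prime (Fact.out : p.Prime)).1 hd with h | h
    · exact hne (index_eq_one.1 h)
    · rw [h] at h1
      have h2 : T.relIndex (zpowers r ⊔ T) = 1 :=
        Nat.eq_of_mul_eq_mul_right (Fact.out : p.Prime).pos (by rw [h1, one_mul])
      exact hlt.not_ge (relIndex_eq_one.1 h2)
  have hbot : zpowers r ⊓ T = ⊥ := by
    haveI : Fact (Nat.card (zpowers r)).Prime := ⟨by rw [Nat.card_zpowers, hro]; exact Fact.out⟩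
    refine ((eq_bot_or_eq_top_of_prime_card (T.subgroupOf (zpowers r))).elim (fun h => ?_) fun h =>
      absurd (subgroupOf_eq_top.1 h (mem_zpowers r)) hrT)
    rwa [subgroupOf_eq_bot, disjoint_iff, inf_comm] at h
  refine Or.inr ⟨zpowers r, T ⊓ centralizer ({r} : Set R), by rw [Nat.card_zpowers, hro], ?_, ?_,
    ?_, ?_⟩
  · refine IsolatedP.isCyclic_of_card_pow_eq_one_le_prime p hp2 _ _ rfl (hR.to_subgroup _) ?_
    refine le_trans (Nat.card_le_card_of_injective
      (fun y : {y : ↥(T ⊓ centralizer ({r} : Set R)) // y ^ p = 1} =>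
        (⟨(y.1 : R), hkey r hrE hrT _ y.1.2.1 (congrArg Subtype.val y.2)
          (mem_centralizer_singleton_iff.1 y.1.2.2)⟩ : BG5.omegaCenter p R))
      fun a b h => Subtype.ext (Subtype.ext (congrArg Subtype.val h :))) hZ.le
  · rw [← inf_assoc, hbot, bot_inf_eq]
  · intro a ha b hb
    obtain ⟨i, rfl⟩ := mem_zpowers_iff.1 ha
    exact ((show Commute b r from mem_centralizer_singleton_iff.1 hb.2).zpow_right i).eq.symm
  · refine le_antisymm (sup_le (fun x hx => mem_centralizer_iff.2 fun y hy => ?_) ?_) fun x hx => ?_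
    · obtain ⟨i, rfl⟩ := mem_zpowers_iff.1 hx
      obtain ⟨j, rfl⟩ := mem_zpowers_iff.1 hy
      exact ((Commute.refl r).zpow_zpow j i).eq
    · intro x hx
      refine mem_centralizer_iff.2 fun y hy => ?_
      obtain ⟨j, rfl⟩ := mem_zpowers_iff.1 hy
      exact ((show Commute x r from mem_centralizer_singleton_iff.1 hx.2).zpow_right j).eq.symm
    · have hx' : x ∈ zpowers r ⊔ T := htop ▸ mem_top x
      obtain ⟨a, ha, t, ht, rfl⟩ := mem_sup_of_normal_right.1 hx'
      obtain ⟨i, rfl⟩ := mem_zpowers_iff.1 ha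
      refine mul_mem (mem_sup_left ha) (mem_sup_right ⟨ht, mem_centralizer_singleton_iff.2 ?_⟩)
      have h1 : r * (r ^ i * t) = r ^ i * t * r := mem_centralizer_iff.1 hx r (mem_zpowers r)
      rw [← mul_assoc, ((Commute.refl r).zpow_right i).eq, mul_assoc, mul_assoc] at h1
      exact (mul_left_cancel h1).symm

variable {G : Type u} [Group G] [Finite G] {p : ℕ} [Fact p.Prime]

/-- A finite group with normal `p`-complements for every prime is nilpotent. -/
theorem isNilpotent_of_forall_hasNormalPComplement {X : Type*} [Group X] [Finite X]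
    (h : ∀ q : ℕ, ∀ [Fact q.Prime], q ∣ Nat.card X → Cfsg.HasNormalPComplement q X) :
    Group.IsNilpotent X := by
  refine ((Group.isNilpotent_of_finite_tfae (G := X)).out 0 3).mpr fun r hr P => ?_
  haveI := hr
  obtain ⟨s, hs⟩ : ∃ s : Finset ℕ, ∀ t, t ∈ s ↔ t.Prime ∧ t ∣ Nat.card X ∧ t ≠ r :=
    ⟨(Nat.card X).primeFactors.erase r, fun t => by
      rw [Finset.mem_erase, Nat.mem_primeFactors]; exact ⟨fun h => ⟨h.2.1, h.2.2.1, h.1⟩,
        fun h => ⟨h.2.2, h.1, h.2.1, Nat.card_pos.ne'⟩⟩⟩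
  let N : Subgroup X := ⨅ q : s, Cfsg.pResidual (q : ℕ) X
  have key : ∀ q : s, (P : Subgroup X) ≤ Cfsg.pResidual q X := by
    intro q x hx
    have hq := (hs q).1 q.2
    refine Transfer.mem_pResidual_of_coprime ?_
    obtain ⟨k, hk⟩ := IsPGroup.iff_orderOf.1 P.isPGroup' ⟨x, hx⟩
    rw [Subgroup.orderOf_mk] at hk
    rw [hk]
    exact ((Nat.coprime_primes hr.out hq.1).2 hq.2.2.symm).pow_left k
  have hPN : (P : Subgroup X) ≤ N := le_iInf key
  have hNp : IsPGroup r N := by
    refine IsPGroup.iff_card.2 ⟨_, Nat.eq_prime_pow_of_unique_prime_dvd Nat.card_pos.ne' fun {t} ht htd => ?_⟩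
    by_contra hne
    have htc : t ∣ Nat.card X := htd.trans (card_subgroup_dvd_card N)
    have htm : t ∈ s := (hs t).2 ⟨ht, htc, hne⟩
    haveI := Fact.mk ht
    have hd : t ∣ Nat.card (Cfsg.pResidual t X) :=
      htd.trans (card_dvd_of_le (iInf_le (fun q : s => Cfsg.pResidual (q : ℕ) X) ⟨t, htm⟩ :))
    exact Transfer.hasNormalPComplement_iff.1 (h t htc) hd
  have hn : N.Normal := normal_iInf_normal fun q => inferInstance
  have e : N = (P : Subgroup X) := P.is_maximal' hNp hPN
  exact e ▸ hn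

/-- BG 10.7 (b). -/
theorem sylow_rank_two_structure (h36 : SmallFixBound.{u}) (hG : Cfsg.IsMinSimpleOddOrder G)
    (P : Sylow p G) (hr : Cfsg.PRankLE p 2 (P : Subgroup G)) :
    IsMulCommutative (P : Subgroup G) ∨ ∃ P₁ P₂ : Subgroup G, P₁ ⊔ P₂ = (P : Subgroup G) ∧
      (∀ a ∈ P₁, ∀ b ∈ P₂, a * b = b * a) ∧ ¬ IsMulCommutative P₁ ∧ Nat.card P₁ = p ^ 3 ∧
      Monoid.exponent P₁ = p ∧ IsCyclic P₂ ∧
      Subgroup.closure {x : G | x ∈ P₂ ∧ x ^ p = 1} = P₁ ⊓ centralizer (P₁ : Set G) := by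
  by_cases hP1 : (P : Subgroup G) = ⊥
  · exact Or.inl (hP1 ▸ inferInstance)
  set N := normalizer ((P : Subgroup G) : Set G) with hN
  haveI : ((P : Subgroup G).subgroupOf N).Normal :=
    (normal_subgroupOf_iff_le_normalizer le_normalizer).2 le_rfl
  have hidx : ¬ p ∣ ((P : Subgroup G).subgroupOf N).index := fun hd =>
    P.not_dvd_index (hd.trans (relIndex_dvd_index_of_le le_normalizer))
  obtain ⟨n, hn⟩ := IsPGroup.iff_card.1 P.isPGroup'
  have hPc : Nat.card ((P : Subgroup G).subgroupOf N) = p ^ n :=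
    (Nat.card_congr (subgroupOfEquivOfLe le_normalizer).toEquiv).trans hn
  obtain ⟨V', hV'⟩ := exists_right_complement'_of_coprime
    (N := (P : Subgroup G).subgroupOf N) (by
      rw [hPc]; exact ((Fact.out : p.Prime).coprime_iff_not_dvd.2 hidx).pow_left n)
  set V := V'.map N.subtype with hV
  have hcompl : Cfsg.IsComplIn (P : Subgroup G) V N := by
    refine ⟨le_normalizer, map_subtype_le _, ?_, fun m hm => ?_⟩
    · rw [← map_subgroupOf_eq_of_le (le_normalizer : (P : Subgroup G) ≤ N), hV,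
        ← map_inf _ _ _ N.subtype_injective, hV'.disjoint.eq_bot, Subgroup.map_bot]
    · obtain ⟨⟨a, b⟩, e⟩ := hV'.surjective ⟨m, hm⟩
      exact ⟨_, a.2, _, ⟨b, b.2, rfl⟩, (congrArg Subtype.val e).symm⟩
  have hPV := (sylow_eq_commutator h36 hG P hcompl).1
  have hp2 : p ≠ 2 := minSimple_prime_ne_two_subgroup hG (H := (P : Subgroup G))
    (hn ▸ dvd_pow_self p fun h => hP1 (card_eq_one.1 (by rw [hn, h, pow_zero])))
  have hVc : (Nat.card V).Coprime p := by
    rw [hV, card_map_of_injective N.subtype_injective, ← hV'.symm.index_eq_card]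
    exact ((Fact.out : p.Prime).coprime_iff_not_dvd.2 hidx).symm
  obtain ⟨-, h⟩ := Cfsg.Agent.S1448.result p hp2 (P : Subgroup G) V P.isPGroup' hP1 hr
    (map_subtype_le _) hVc (minSimple_odd_subgroup hG V) hPV.symm
  rcases h with h | ⟨P₁, P₂, h1, h2, h3, h4, h5, h6, h7⟩
  · exact Or.inl h
  · exact Or.inr ⟨P₁, P₂, h1, h2, h3, h4, h5, h6,
      h7.trans (commutator_eq_inf_centralizer_of_card_cube h4 h3)⟩

/-- Outside `β(M)` the Sylow subgroups of a maximal subgroup are narrow. -/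
theorem sylow_narrow_of_not_beta (hG : Cfsg.IsMinSimpleOddOrder G) {M : Subgroup G}
    (hM : IsCoatom M) (hpM : p ∣ Nat.card M) (hp : p ∉ Cfsg.beta M) (S : Sylow p M) :
    Cfsg.IsNarrow p ↥(S : Subgroup M) := by
  by_cases hr : Cfsg.PRankLE p 2 M
  · exact Or.inl (pRankLE_of_injective' (S : Subgroup M).subtype (subtype_injective _) hr)
  have hα : p ∈ Cfsg.alpha M := ⟨Fact.out, hr⟩
  have hnot : ¬ Cfsg.IsIdealPrime p G := fun h => hp ⟨hα, h⟩
  have hrG : ¬ Cfsg.PRankLE p 2 G :=
    fun h => hr (pRankLE_of_injective' M.subtype M.subtype_injective h)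
  simp only [IsIdealPrime, not_and, not_forall, not_exists] at hnot
  obtain ⟨P, E, hEP, hE, hE2, hno⟩ := hnot Fact.out hrG
  have hmax : ∀ B : Subgroup (P : Subgroup G), Cfsg.IsElementaryAbelian p B →
      E.subgroupOf (P : Subgroup G) ≤ B → B = E.subgroupOf (P : Subgroup G) := by
    intro B hB hle
    refine map_injective (P : Subgroup G).subtype_injective ?_
    rw [map_subgroupOf_eq_of_le hEP]
    by_contra hne
    have hle' := map_mono (f := (P : Subgroup G).subtype) hle
    rw [map_subgroupOf_eq_of_le hEP] at hle'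
    exact hno _ (map_subtype_le _) (isElementaryAbelian_map _ hB)
      (lt_of_le_of_ne hle' (Ne.symm hne))
  have hPn : Cfsg.IsNarrow p ↥(P : Subgroup G) := by
    refine isNarrow_of_maximal_plane (minSimple_prime_ne_two_subgroup hG hpM) P.isPGroup'
      (E := E.subgroupOf (P : Subgroup G)) ⟨?_, fun a ha => Subtype.ext (hE.2 a ha)⟩ ?_ hmax
    · haveI := hE.1
      exact ⟨⟨fun a b => Subtype.ext (Subtype.ext (setLike_mul_comm (s := E) a.2 b.2))⟩⟩
    · rw [Nat.card_congr (subgroupOfEquivOfLe hEP).toEquiv, hE2]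
  let SG : Sylow p G :=
    (sigma_isSylowIn_top (alpha_subset_sigma hG hM hα) (isSylowIn_map_subtype S)).toSylowTop
  exact BG5.isNarrow_of_mulEquiv ((Sylow.equiv P SG).trans
    ((S : Subgroup M).equivMapOfInjective M.subtype M.subtype_injective).symm) hPn

/-- The conclusions of BG 5.6 in `M` for a prime outside `β(M)`. -/
theorem not_beta_facts (h36 : SmallFixBound.{u}) (hG : Cfsg.IsMinSimpleOddOrder G)
    {M : Subgroup G} (hM : IsCoatom M) (hpM : p ∣ Nat.card M) (hp : p ∉ Cfsg.beta M) :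
    Cfsg.HasNormalPComplement p ↥(commutator M) ∧
      ∀ q : ℕ, q.Prime → q ∣ (Cfsg.pPrimeCore p M).index → q ≤ p := by
  haveI := minSimple_coatom_solvable hG hM
  obtain ⟨h1, -, h3, -⟩ := Cfsg.Agent.S1455.result (minSimple_odd_subgroup hG M) p hpM default
    (sylow_narrow_of_not_beta hG hM hpM hp default) fun _ => pLengthOne h36 hG p hM.1
  exact ⟨h3, h1⟩

theorem beta_subset_sigma (hG : Cfsg.IsMinSimpleOddOrder G) {M : Subgroup G} (hM : IsCoatom M) :
    Cfsg.beta M ⊆ Cfsg.sigma M := fun _ h => alpha_subset_sigma hG hM h.1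

/-- BG 10.8: a subgroup of `M'` without prime divisors in `β(M)` is nilpotent. -/
theorem isNilpotent_of_beta_free (h36 : SmallFixBound.{u}) (hG : Cfsg.IsMinSimpleOddOrder G)
    {M : Subgroup G} (hM : IsCoatom M) {H : Subgroup G} (hH : H ≤ ⁅M, M⁆)
    (hβ : ∀ q : ℕ, q.Prime → q ∣ Nat.card H → q ∉ Cfsg.beta M) : Group.IsNilpotent H := by
  refine isNilpotent_of_forall_hasNormalPComplement fun q _ hd => ?_
  have hqM : q ∣ Nat.card M :=
    hd.trans (card_dvd_of_le (hH.trans (commutator_le_self M)))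
  have h := (not_beta_facts h36 hG hM hqM (hβ q Fact.out hd)).1
  refine Transfer.hasNormalPComplement_of_le hH
    ((Transfer.hasNormalPComplement_congr ?_).1 h)
  exact ((commutator M).equivMapOfInjective M.subtype M.subtype_injective).trans
    (MulEquiv.subgroupCongr (map_subtype_commutator M))

/-- Sylow subgroups for primes in `β(M)` lie in `M_β`. -/
theorem beta_sylow_le (h36 : SmallFixBound.{u}) (hG : Cfsg.IsMinSimpleOddOrder G)
    {M P : Subgroup G} (hM : IsCoatom M) (hp : p ∈ Cfsg.beta M) (hP : IsSylowIn p P M) :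
    P ≤ Cfsg.piCoreOf (Cfsg.beta M) M := by
  set S : Finset ℕ := (Nat.card M).primeFactors with hS
  set ι := {q : S // (q : ℕ) ∉ Cfsg.beta M}
  set K : Subgroup M := commutator M ⊓
    ⨅ q : ι, (Cfsg.pResidual (q.1 : ℕ) ↥(commutator M)).map (commutator M).subtype with hK
  haveI hKn : K.Normal := by
    haveI : (⨅ q : ι, (Cfsg.pResidual (q.1 : ℕ) ↥(commutator M)).map (commutator M).subtype).Normal :=
      normal_iInf_normal fun q => inferInstance
    exact normal_inf_normal _ _
  have hKβ : IsPiSubgroup (Cfsg.beta M) K := by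
    intro r hr hd
    by_contra hcon
    haveI := Fact.mk hr
    have hrM : r ∣ Nat.card M := hd.trans (card_subgroup_dvd_card K)
    have hle : K ≤ (Cfsg.pResidual r ↥(commutator M)).map (commutator M).subtype :=
      inf_le_right.trans (iInf_le _ (⟨⟨r, Nat.mem_primeFactors.2 ⟨hr, hrM, Nat.card_pos.ne'⟩⟩, hcon⟩ : ι))
    have hd' := hd.trans (card_dvd_of_le hle)
    rw [card_map_of_injective (commutator M).subtype_injective] at hd'
    exact Transfer.hasNormalPComplement_iff.1 (not_beta_facts h36 hG hM hrM hcon).1 hd'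
  have hPc := sigma_sylow_le_commutator hG hM (beta_subset_sigma hG hM hp) hP
  rw [← map_subtype_commutator] at hPc
  intro x hx
  obtain ⟨y, hy, rfl⟩ := hPc hx
  refine ⟨y, le_piCore hKβ (mem_inf.2 ⟨hy, mem_iInf.2 fun q => ⟨⟨y, hy⟩, ?_, rfl⟩⟩), rfl⟩
  have hq := (Nat.mem_primeFactors.1 q.1.2).1
  refine Transfer.mem_pResidual_of_coprime ?_
  replace hx : (y : G) ∈ P := hx
  obtain ⟨k, hk⟩ := IsPGroup.iff_orderOf.1 hP.2.1 ⟨(y : G), hx⟩
  rw [Subgroup.orderOf_mk, Subgroup.orderOf_coe] at hk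
  rw [Subgroup.orderOf_mk, hk]
  exact ((Nat.coprime_primes Fact.out hq).2 fun h => q.2 (h ▸ hp)).pow_left k

/-- BG 10.8: `M_β` is a Hall subgroup of `M` and of `G`. -/
theorem betaCore_isHall (h36 : SmallFixBound.{u}) (hG : Cfsg.IsMinSimpleOddOrder G)
    {M : Subgroup G} (hM : IsCoatom M) :
    Cfsg.IsPiHallOf (Cfsg.beta M) (Cfsg.piCoreOf (Cfsg.beta M) M) M ∧
      Cfsg.IsPiHall (Cfsg.beta M) (Cfsg.piCoreOf (Cfsg.beta M) M) := by
  refine ⟨⟨piCoreOf_le _ M, isPiSubgroup_piCoreOf _ M, fun r hr hrπ hd => ?_⟩,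
    isPiSubgroup_piCoreOf _ M, fun r hr hrπ hd => ?_⟩
  all_goals
    haveI := Fact.mk hr
    obtain ⟨P, hP⟩ := exists_isSylowIn r M
    have hle := beta_sylow_le h36 hG hM hrπ hP
  · exact hP.2.2 (hd.trans (relIndex_dvd_of_le_left M hle))
  · have h := (sigma_isSylowIn_top (beta_subset_sigma hG hM hrπ) hP).2.2
    rw [relIndex_top_right] at h
    exact h (hd.trans (index_dvd_of_le hle))

/-- A solvable subgroup of `M'` has a nilpotent Hall `β(M)'`-subgroup. -/
theorem exists_nilpotent_beta_hall (h36 : SmallFixBound.{u}) (hG : Cfsg.IsMinSimpleOddOrder G)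
    {M : Subgroup G} (hM : IsCoatom M) {X : Subgroup G} (hX : X ≤ ⁅M, M⁆) :
    ∃ H : Subgroup G, Cfsg.IsPiHallOf {q | q.Prime ∧ q ∉ Cfsg.beta M} H X ∧
      Group.IsNilpotent H := by
  haveI := minSimple_solvable hG
    (ne_top_of_le_ne_top hM.1 (hX.trans (commutator_le_self M)))
  obtain ⟨H', hH'⟩ := Solvable.exists_isPiHall {q | q.Prime ∧ q ∉ Cfsg.beta M} X
  refine ⟨H'.map X.subtype, ⟨map_subtype_le _, fun q hq hd => ?_, fun q hq hqπ => ?_⟩,
    isNilpotent_of_beta_free h36 hG hM ((map_subtype_le _).trans hX) fun q hq hd => ?_⟩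
  · rw [card_map_of_injective X.subtype_injective] at hd
    exact hH'.1 q hq hd
  · rw [Subgroup.relIndex, Subgroup.subgroupOf, comap_map_eq_self_of_injective X.subtype_injective]
    exact hH'.2 q hq hqπ
  · rw [card_map_of_injective X.subtype_injective] at hd
    exact (hH'.1 q hq hd).2

/-- BG 10.8, for each prime outside `β(M)`. -/
theorem beta_prime_facts (h36 : SmallFixBound.{u}) (hG : Cfsg.IsMinSimpleOddOrder G)
    {M : Subgroup G} (hM : IsCoatom M) (hpM : p ∣ Nat.card M) (hp : p ∉ Cfsg.beta M) :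
    Cfsg.HasNormalPComplement p ↥⁅M, M⁆ ∧ Cfsg.HasNormalPComplement p ↥(Cfsg.sigmaCore M) ∧
      ∀ q : ℕ, q.Prime → q ∣ (Cfsg.pPrimeCore p ↥M).index → q ≤ p := by
  obtain ⟨h, h'⟩ := not_beta_facts h36 hG hM hpM hp
  have hM' : Cfsg.HasNormalPComplement p ↥⁅M, M⁆ := (Transfer.hasNormalPComplement_congr
    (((commutator M).equivMapOfInjective M.subtype M.subtype_injective).trans
      (MulEquiv.subgroupCongr (map_subtype_commutator M)))).1 h
  exact ⟨hM', Transfer.hasNormalPComplement_of_le (sigmaCore_le_commutator hG hM) hM', h'⟩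

end CfsgLib.OddOrder
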