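import Cfsg.Agent.OddOrder.BG10.RankTwo
import Cfsg.Agent.OddOrder.BG6Fusion
import Cfsg.Agent.OddOrder.BG6Hall
import Cfsg.Agent.PLength.Basic

/-!
# BG 10.7 and its corollaries: `p`-length one and the fusion in a Sylow subgroup

Every proper subgroup of a minimal simple group of odd order has `p`-length one, so the normalizer
of a Sylow subgroup controls fusion in it. The input BG 3.6 (S1444) enters as the hypothesis
`SmallFixBound`.
-/

set_option autoImplicit false
set_option linter.style.haveILetI false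
set_option linter.unusedSectionVars false

namespace CfsgLib.OddOrder

open Cfsg Subgroup
open scoped commutatorElement
open CfsgLib.ConjFunctor (IsSylowIn exists_isSylowIn_ge)

universe u

/-- The statement of BG 3.6 (S1444). -/
abbrev SmallFixBound : Prop :=
  ∀ {X : Type u} [Group X] [Finite X] [Group.IsSolvable X], Odd (Nat.card X) →
    ∀ (H R R₀ : Subgroup X) [H.Normal], (Nat.card H).Coprime H.index → Subgroup.IsComplement' H R →
      R₀ ≤ R → (Nat.card R₀).Prime → IsZGroup ↥(H ⊓ Subgroup.centralizer (R₀ : Set X)) →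
      ∀ (r : ℕ) [Fact r.Prime], Cfsg.PLengthLE r 1 ↥⁅H, R⁆

variable {G : Type u} [Group G] [Finite G] {p : ℕ} [Fact p.Prime]

/-- `O_{p',p}` of index prime to `p` gives `p`-length one. -/
theorem pLengthLE_one_of_coprime_index {X : Type*} [Group X] [Finite X]
    (h : ¬ p ∣ (Cfsg.pPrimePCore p X).index) : Cfsg.PLengthLE p 1 X := by
  show (upperPSeries p X 3).1 = ⊤
  rw [upperPSeries_three]
  have hc : (Nat.card (⊤ : Subgroup (X ⧸ Cfsg.pPrimePCore p X))).Coprime p := by
    rw [card_top, ← index_eq_card]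
    exact ((Fact.out : p.Prime).coprime_iff_not_dvd.2 h).symm
  rw [top_le_iff.1 (PLocal.le_pPrimeCore (N := ⊤) hc), Subgroup.comap_top]

theorem pLengthLE_of_le {H M : Subgroup G} (hHM : H ≤ M) {k : ℕ} (h : Cfsg.PLengthLE p k M) :
    Cfsg.PLengthLE p k H :=
  CfsgLib.PLength.pLengthLE_congr (subgroupOfEquivOfLe hHM)
    (CfsgLib.PLength.pLengthLE_subgroup h (H.subgroupOf M))

/-- `p`-length one for a subgroup with a Sylow `p`-subgroup of rank at most two. -/
theorem pLengthLE_one_of_rank_two (hG : Cfsg.IsMinSimpleOddOrder G) {M P : Subgroup G}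
    (hM : M ≠ ⊤) (hp : p ∣ Nat.card M) (hP : IsSylowIn p P M) (hr : Cfsg.PRankLE p 2 P) :
    Cfsg.PLengthLE p 1 M := by
  refine pLengthLE_one_of_coprime_index fun hd => hP.2.2 ?_
  exact hd.trans (index_dvd_of_le (subgroupOf_le_pPrimePCore_of_rank_two (minSimple_solvable hG hM)
    (minSimple_odd_subgroup hG M) (minSimple_prime_ne_two_subgroup hG hp) hP hr))

/-- BG 10.7. -/
theorem pLengthOne (h36 : SmallFixBound.{u}) (hG : Cfsg.IsMinSimpleOddOrder G) (p : ℕ)
    [Fact p.Prime] {H : Subgroup G} (hH : H ≠ ⊤) : Cfsg.PLengthLE p 1 H := by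
  obtain ⟨M, hM, hHM⟩ := minSimple_exists_coatom hG hH
  refine pLengthLE_of_le hHM ?_
  by_cases hpM : p ∣ Nat.card M
  swap
  · exact CfsgLib.PLength.pLengthLE_mono (Nat.zero_le 1) (CfsgLib.PLength.pLengthLE_zero_iff.2
      ((Fact.out : p.Prime).coprime_iff_not_dvd.2 hpM).symm)
  obtain ⟨P, hP⟩ := exists_isSylowIn p M
  by_cases hr : Cfsg.PRankLE p 2 P
  · exact pLengthLE_one_of_rank_two hG hM.1 hpM hP hr
  have hpα : p ∈ Cfsg.alpha M := ⟨Fact.out, fun h => hr (pRankLE_of_injective'
    (inclusion hP.1) (inclusion_injective _) h)⟩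
  haveI := minSimple_coatom_solvable hG hM
  set N := Cfsg.piCore (Cfsg.alpha M) ↥M with hN
  obtain ⟨hMα, -⟩ := alphaCore_isHall hG hM
  have hNidx : ∀ r : ℕ, r.Prime → r ∈ Cfsg.alpha M → ¬ r ∣ N.index := fun r hr' hrα => by
    have h := hMα.2.2 r hr' hrα
    rwa [Cfsg.alphaCore, Subgroup.relIndex, Subgroup.subgroupOf,
      comap_map_eq_self_of_injective M.subtype_injective] at h
  have hNc : (Nat.card N).Coprime N.index := Nat.coprime_of_dvd fun r hr' hd hd' =>
    hNidx r hr' (isPiSubgroup_piCore _ _ r hr' hd) hd'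
  have hNM' : N ≤ commutator M := by
    refine (map_le_map_iff_of_injective M.subtype_injective).1 ?_
    rw [map_subtype_commutator]
    exact (alphaCore_le_sigmaCore hG hM).trans (sigmaCore_le_commutator hG hM)
  -- a prime outside `σ(M)`
  obtain ⟨q, hq, hqM, hqσ⟩ : ∃ q : ℕ, q.Prime ∧ q ∣ Nat.card M ∧ q ∉ Cfsg.sigma M := by
    by_contra hcon
    simp only [not_exists, not_and, not_not] at hcon
    have hlt := minSimple_commutator_lt hG (minSimple_coatom_ne_bot hG hM) hM.1
    refine hlt.not_ge (le_trans (le_piCoreOf le_rfl le_normalizer fun r hr' hd => hcon r hr' hd)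
      (sigmaCore_le_commutator hG hM))
  haveI := Fact.mk hq
  have hqα : q ∉ Cfsg.alpha M := fun h => hqσ (alpha_subset_sigma hG hM h)
  obtain ⟨K, hK⟩ := exists_right_complement'_of_coprime hNc
  let Q : Sylow q K := default
  have hQ : IsSylowIn q (((Q : Subgroup K).map K.subtype).map M.subtype) M := by
    refine ⟨map_subtype_le _, (Q.isPGroup'.map _).map _, ?_⟩
    rw [Subgroup.relIndex, Subgroup.subgroupOf, comap_map_eq_self_of_injective M.subtype_injective]
    intro hd
    rw [index_map, (MonoidHom.ker_eq_bot_iff K.subtype).2 K.subtype_injective, sup_bot_eq,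
      range_subtype] at hd
    rcases hq.dvd_mul.1 hd with h | h
    · exact Q.not_dvd_index h
    · rw [hK.index_eq_card] at h
      exact hqα (isPiSubgroup_piCore _ _ q hq h)
  obtain ⟨x, hxQ, -, hxo, hZ, -⟩ := exists_center_element_small_fix hG hM hqM hqσ hQ
  obtain ⟨x', ⟨⟨x'', hx'K⟩, -, hx''⟩, rfl⟩ := hxQ
  subst hx''
  set x' : M := K.subtype ⟨x'', hx'K⟩ with hx'
  have hpl := h36 (minSimple_odd_subgroup hG M) N K (zpowers x') hNc hK (zpowers_le.2 hx'K)
    (by rw [Nat.card_zpowers, ← orderOf_injective M.subtype M.subtype_injective, hxo]; exact hq)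
    (by
      haveI : IsZGroup ↥(Cfsg.alphaCore M ⊓ centralizer ({(x' : G)} : Set G)) := hZ
      refine IsZGroup.of_injective (f := ((M.subtype).comp
        (N ⊓ centralizer ((zpowers x' : Subgroup M) : Set M)).subtype).codRestrict
          (Cfsg.alphaCore M ⊓ centralizer ({(x' : G)} : Set G)) fun y =>
            mem_inf.2 ⟨⟨y, y.2.1, rfl⟩, ?_⟩) fun a b h => ?_
      · exact mem_centralizer_singleton_iff.2
          (congrArg Subtype.val (mem_centralizer_iff.1 y.2.2 x' (mem_zpowers x'))).symm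
      · exact Subtype.ext (Subtype.ext (congrArg Subtype.val h :))
      ) p
  rw [← eq_commutator_complement hK hNM'] at hpl
  refine CfsgLib.PLength.pLengthLE_extension (a := 1) (b := 0) N hpl
    (CfsgLib.PLength.pLengthLE_zero_iff.2 ?_)
  rw [← index_eq_card]
  exact ((Fact.out : p.Prime).coprime_iff_not_dvd.2 (hNidx p Fact.out hpα)).symm

/-- The normalizer of a Sylow subgroup controls fusion in it, with the centralizer. -/
theorem sylow_conj_le (h36 : SmallFixBound.{u}) (hG : Cfsg.IsMinSimpleOddOrder G) (P : Sylow p G)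
    {Q : Subgroup G} (hQ : Q ≤ (P : Subgroup G)) {x : G}
    (hx : Q.map (MulAut.conj x).toMonoidHom ≤ (P : Subgroup G)) :
    ∃ n ∈ normalizer ((P : Subgroup G) : Set G), ∃ c ∈ centralizer (Q : Set G), x = n * c := by
  by_cases hQ1 : Q = ⊥
  · refine ⟨1, one_mem _, x, mem_centralizer_iff.2 fun y hy => ?_, (one_mul x).symm⟩
    rw [hQ1, SetLike.mem_coe, mem_bot] at hy
    rw [hy, one_mul, mul_one]
  have hP1 : (P : Subgroup G) ≠ ⊥ := fun h => hQ1 (le_bot_iff.1 (h ▸ hQ))
  obtain ⟨M, hM, hNM⟩ := minSimple_exists_coatom hG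
    (minSimple_normalizer_ne_top hG hP1 (minSimple_ne_top_of_isPGroup hG P.isPGroup'))
  have hPM : (P : Subgroup G) ≤ M := le_normalizer.trans hNM
  have hPS : IsSylowIn p (P : Subgroup G) M := ⟨hPM, P.isPGroup', fun hd =>
    P.not_dvd_index (hd.trans (relIndex_dvd_index_of_le hPM))⟩
  have hpM : p ∣ Nat.card M := by
    obtain ⟨n, hn⟩ := IsPGroup.iff_card.1 P.isPGroup'
    have hn0 : n ≠ 0 := fun h => hP1 (card_eq_one.1 (by rw [hn, h, pow_zero]))
    exact (hn ▸ dvd_pow_self p hn0).trans (card_dvd_of_le hPM)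
  obtain ⟨m, hm, c, hc, rfl⟩ := sigma_conj_le hG hM (mem_sigma_of_normalizer_le hPS hpM hNM)
    (P.isPGroup'.to_le hQ) hQ1 (hQ.trans hPM) (hx.trans hPM)
  haveI := minSimple_coatom_solvable hG hM
  let S : Sylow p M := (hPS.2.1.comap_subtype (K := M)).toSylow hPS.2.2
  obtain ⟨n, hn, c', hc', e⟩ := pLengthOne_fusion (pLengthOne h36 hG p hM.1) S
    (D := Q.subgroupOf M) (comap_mono hQ) (x := ⟨m, hm⟩) (by
      intro y hy
      obtain ⟨d, hd, rfl⟩ := hy
      refine hx ⟨d, hd, ?_⟩
      show m * c * (d : G) * (m * c)⁻¹ = m * d * m⁻¹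
      rw [show m * c * (d : G) * (m * c)⁻¹ = m * (c * d) * c⁻¹ * m⁻¹ by group,
        ← mem_centralizer_iff.1 hc d hd]
      group)
  refine ⟨n, ?_, c' * c, mul_mem (mem_centralizer_iff.2 fun y hy => ?_) hc, ?_⟩
  · have h := le_normalizer_map M.subtype
      (mem_map_of_mem M.subtype hn : M.subtype n ∈ (normalizer ((S : Subgroup M) : Set M)).map M.subtype)
    rwa [show (S : Subgroup M).map M.subtype = P from map_subgroupOf_eq_of_le hPM] at h
  · exact congrArg Subtype.val (mem_centralizer_iff.1 hc' ⟨y, (hQ.trans hPM) hy⟩ hy)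
  · rw [← mul_assoc]
    exact congrArg (· * c) (congrArg Subtype.val e :)

/-- BG 10.8 (c). -/
theorem sylow_conj_eq (h36 : SmallFixBound.{u}) (hG : Cfsg.IsMinSimpleOddOrder G) (P : Sylow p G)
    {Q : Subgroup G} (hQ : Q ≤ (P : Subgroup G)) {x : G}
    (hx : Q.map (MulAut.conj x).toMonoidHom ≤ (P : Subgroup G)) :
    ∃ y ∈ normalizer ((P : Subgroup G) : Set G),
      Q.map (MulAut.conj x).toMonoidHom = Q.map (MulAut.conj y).toMonoidHom := by
  obtain ⟨n, hn, c, hc, rfl⟩ := sylow_conj_le h36 hG P hQ hx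
  refine ⟨n, hn, ?_⟩
  rw [← map_conj_map_conj, map_conj_eq_self_iff.2 (centralizer_le_normalizer _ hc)]

/-- BG 10.8 (d). -/
theorem sylow_normalizer_index (h36 : SmallFixBound.{u}) (hG : Cfsg.IsMinSimpleOddOrder G)
    (P : Sylow p G) {Q : Subgroup G} (hQ : Q ≤ (P : Subgroup G)) :
    ¬ p ∣ ((P : Subgroup G) ⊓ normalizer (Q : Set G)).relIndex (normalizer (Q : Set G)) := by
  set R := (P : Subgroup G) ⊓ normalizer (Q : Set G) with hR
  obtain ⟨S, hRS, hS⟩ := exists_isSylowIn_ge (p := p) (inf_le_right : R ≤ normalizer (Q : Set G))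
    (P.isPGroup'.to_le inf_le_left)
  obtain ⟨T, hT⟩ := hS.2.1.exists_le_sylow
  obtain ⟨g, hg⟩ := MulAction.exists_smul_eq G T P
  have hgS : S.map (MulAut.conj g).toMonoidHom ≤ (P : Subgroup G) := by
    rw [← hg, Sylow.coe_subgroup_smul]
    exact map_mono hT
  have hQS : Q ≤ S := (le_inf hQ le_normalizer).trans hRS
  obtain ⟨n, hn, c, hc, rfl⟩ := sylow_conj_le h36 hG P hQ ((map_mono hQS).trans hgS)
  have hcS : S.map (MulAut.conj c).toMonoidHom ≤ R := by
    refine le_inf ?_ ?_
    · have h := map_mono (f := (MulAut.conj n⁻¹).toMonoidHom) hgS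
      rwa [map_conj_map_conj, inv_mul_cancel_left, map_conj_eq_self_iff.2 (inv_mem hn)] at h
    · exact (map_mono hS.1).trans
        (map_conj_eq_self_of_mem (centralizer_le_normalizer _ hc)).le
  have heq : R = S := eq_of_le_of_card_ge hRS (by
    rw [← card_map_conj S c]; exact card_le_of_le hcS)
  rw [heq]
  exact hS.2.2

/-- BG 10.8 (e). -/
theorem sylow_weakly_closed_normal (h36 : SmallFixBound.{u}) (hG : Cfsg.IsMinSimpleOddOrder G)
    (P : Sylow p G) {R Q : Subgroup G} (hR : IsPGroup p R) (hQ : Q ≤ (P : Subgroup G) ⊓ R)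
    (hN : normalizer ((P : Subgroup G) : Set G) ≤ normalizer (Q : Set G)) :
    normalizer (R : Set G) ≤ normalizer (Q : Set G) := by
  obtain ⟨T, hT⟩ := hR.exists_le_sylow
  obtain ⟨g, hg⟩ := MulAction.exists_smul_eq G T P
  have hgR : R.map (MulAut.conj g).toMonoidHom ≤ (P : Subgroup G) := by
    rw [← hg, Sylow.coe_subgroup_smul]
    exact map_mono hT
  have key : ∀ y : G, Q.map (MulAut.conj y).toMonoidHom ≤ (P : Subgroup G) →
      Q.map (MulAut.conj y).toMonoidHom = Q := fun y hy => by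
    obtain ⟨n, hn, e⟩ := sylow_conj_eq h36 hG P (hQ.trans inf_le_left) hy
    rw [e]
    exact map_conj_eq_self_iff.2 (hN hn)
  have hgQ : Q.map (MulAut.conj g).toMonoidHom = Q :=
    key g ((map_mono (hQ.trans inf_le_right)).trans hgR)
  intro h hh
  rw [← map_conj_eq_self_iff] at hh ⊢
  have h1 : (Q.map (MulAut.conj h).toMonoidHom) ≤ R :=
    ((map_mono (hQ.trans inf_le_right)).trans hh.le)
  have h2 := key (g * h) (by rw [← map_conj_map_conj]; exact (map_mono h1).trans hgR)
  rw [← map_conj_map_conj] at h2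
  have h3 := congrArg (Subgroup.map (MulAut.conj g⁻¹).toMonoidHom) (h2.trans hgQ.symm)
  simpa only [map_conj_map_conj, inv_mul_cancel, inv_mul_cancel_left, one_mul, map_conj_one] using h3

/-- BG 10.8 (a), (b). -/
theorem sylow_eq_commutator (h36 : SmallFixBound.{u}) (hG : Cfsg.IsMinSimpleOddOrder G)
    (P : Sylow p G) {V : Subgroup G}
    (hV : Cfsg.IsComplIn (P : Subgroup G) V (normalizer ((P : Subgroup G) : Set G))) :
    (P : Subgroup G) = ⁅(P : Subgroup G), V⁆ ∧
      (P : Subgroup G) ≤ ⁅normalizer ((P : Subgroup G) : Set G),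
        normalizer ((P : Subgroup G) : Set G)⁆ := by
  by_cases hP1 : (P : Subgroup G) = ⊥
  · rw [hP1]
    exact ⟨(commutator_bot_left V).symm, bot_le⟩
  set N := normalizer ((P : Subgroup G) : Set G) with hN
  have hle : (P : Subgroup G) ≤ ⁅N, N⁆ := by
    have hc : Transfer.ControlsFusion N (P : Subgroup G) := by
      intro x hx g hgx
      obtain ⟨n, hn, c, hc, rfl⟩ := sylow_conj_le h36 hG P (Q := zpowers x) (zpowers_le.2 hx)
        (x := g) (by rw [MonoidHom.map_zpowers]; exact zpowers_le.2 hgx)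
      refine ⟨n, hn, ?_⟩
      have hcx : x * c = c * x := mem_centralizer_iff.1 hc x (mem_zpowers x)
      symm
      calc n * c * x * (n * c)⁻¹ = n * (c * x) * c⁻¹ * n⁻¹ := by group
        _ = n * x * n⁻¹ := by rw [← hcx]; group
    have h := Transfer.commutator_inf_eq_of_controlsFusion P le_normalizer hc
    rw [minSimple_commutator_eq_top hG, top_inf_eq] at h
    exact fun x hx => (h.le hx).1
  refine ⟨?_, hle⟩
  haveI : Group.IsSolvable N := minSimple_solvable hG
    (minSimple_normalizer_ne_top hG hP1 (minSimple_ne_top_of_isPGroup hG P.isPGroup'))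
  haveI : ((P : Subgroup G).subgroupOf N).Normal :=
    (normal_subgroupOf_iff_le_normalizer le_normalizer).2 le_rfl
  have hc : IsComplement' ((P : Subgroup G).subgroupOf N) (V.subgroupOf N) := by
    refine isComplement'_of_disjoint_and_mul_eq_univ ?_ ?_
    · rw [disjoint_iff, Subgroup.subgroupOf, Subgroup.subgroupOf, ← comap_inf, hV.2.2.1,
        ← Subgroup.subgroupOf, bot_subgroupOf]
    · refine Set.eq_univ_of_forall fun m => ?_
      obtain ⟨a, ha, b, hb, e⟩ := hV.2.2.2 m m.2
      exact ⟨⟨a, le_normalizer ha⟩, ha, ⟨b, hV.2.1 hb⟩, hb, Subtype.ext e.symm⟩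
  have h := congrArg (Subgroup.map N.subtype) (eq_commutator_complement hc (by
    rw [← map_le_map_iff_of_injective N.subtype_injective, map_subgroupOf_eq_of_le le_normalizer,
      map_subtype_commutator]
    exact hle))
  rwa [Subgroup.map_commutator, map_subgroupOf_eq_of_le le_normalizer,
    map_subgroupOf_eq_of_le hV.2.1] at h

end CfsgLib.OddOrder
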