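import Cfsg.Agent.OddOrder.BG10.Cores
import Cfsg.Agent.OddOrder.BG1Stab

/-!
# BG 10.3-10.6: centralizers of `α(M)'`-subgroups and primes of rank two outside `σ(M)`
-/

set_option autoImplicit false
set_option linter.style.haveILetI false
set_option linter.unusedSectionVars false

namespace CfsgLib.OddOrder

open Cfsg Subgroup
open CfsgLib.ConjFunctor (IsSylowIn exists_isSylowIn_ge)

variable {G : Type*} [Group G] [Finite G] {p : ℕ} [Fact p.Prime]

/-- An elementary abelian subgroup of order at least `p²` is noncyclic, and `p` is odd in a group of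
odd order. -/
theorem exists_plane_le_of_not_isCyclic (hG : Cfsg.IsMinSimpleOddOrder G) {B : Subgroup G}
    (hB : IsPGroup p B) (hnc : ¬ IsCyclic B) :
    ∃ E : Subgroup G, E ≤ B ∧ Cfsg.IsElementaryAbelian p E ∧ p ^ 2 ≤ Nat.card E := by
  have hp2 : p ≠ 2 := by
    obtain ⟨n, hn⟩ := IsPGroup.iff_card.1 hB
    refine minSimple_prime_ne_two_subgroup hG (H := B) (hn ▸ dvd_pow_self p fun h0 => hnc ?_)
    rw [card_eq_one.1 (show Nat.card B = 1 by rw [hn, h0, pow_zero])]
    infer_instance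
  exact exists_elementary_of_not_pRankLE (not_pRankLE_one_of_not_isCyclic hB hp2 hnc)

/-- BG 10.3. -/
theorem inUniqueMaximal_centralizer_of_alpha (hG : Cfsg.IsMinSimpleOddOrder G) {M X : Subgroup G}
    (hM : IsCoatom M) (hXM : X ≤ M)
    (hXα : ∀ r : ℕ, r.Prime → r ∣ Nat.card X → r ∉ Cfsg.alpha M)
    (hr : ¬ Cfsg.RankLE 1 ↥(Cfsg.alphaCore M ⊓ centralizer (X : Set G))) :
    Cfsg.InUniqueMaximal (M ⊓ centralizer (X : Set G)) := by
  obtain ⟨q, hq, E, hEC, hE, hE2⟩ := exists_elementary_of_not_rankLE hr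
  haveI := Fact.mk hq
  have hEp := isPGroup_of_isElementaryAbelian hE
  have hqα : q ∈ Cfsg.alpha M := by
    obtain ⟨n, hn⟩ := IsPGroup.iff_card.1 hEp
    refine isPiSubgroup_piCoreOf (Cfsg.alpha M) M q hq
      ((hn ▸ dvd_pow_self q fun h0 => ?_).trans (card_dvd_of_le (hEC.trans inf_le_left)))
    rw [hn, h0, pow_zero] at hE2
    exact (Nat.one_lt_pow two_ne_zero hq.one_lt).not_ge hE2
  have hMne : M ⊓ centralizer (X : Set G) ≠ ⊤ := ne_top_of_le_ne_top hM.1 inf_le_left
  have hEle : E ≤ M ⊓ centralizer (X : Set G) :=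
    le_inf ((hEC.trans inf_le_left).trans (piCoreOf_le _ _)) (hEC.trans inf_le_right)
  have hE2' := not_rankLE_of_le le_rfl hE hE2
  by_cases hbig : ¬ Cfsg.RankLE 2 (centralizer (E : Set G))
  · exact inUniqueMaximal_mono (uniqueness hG (ne_top_of_le_ne_top hMne hEle) hE2' (Or.inr hbig))
      hEle hMne
  rw [not_not] at hbig
  -- an `X`-invariant Sylow subgroup of `M_α` containing `E`
  have hXN : X ≤ normalizer ((Cfsg.alphaCore M : Subgroup G) : Set G) :=
    hXM.trans (le_normalizer_piCoreOf _ M)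
  have hcop : (Nat.card X).Coprime (Nat.card (Cfsg.alphaCore M)) :=
    Nat.coprime_of_dvd fun r hr' hdX hdA => hXα r hr' hdX (isPiSubgroup_piCoreOf _ M r hr' hdA)
  obtain ⟨P, hEP, hXP⟩ := Coprime.exists_invariant_sylow_ge hXN hcop
    (Or.inl (minSimple_solvable hG (ne_top_of_le_ne_top hM.1 hXM))) (hEC.trans inf_le_left) hEp
    ((le_centralizer_iff.1 (hEC.trans inf_le_right)).trans (centralizer_le_normalizer _))
  set P' := (P : Subgroup ↥(Cfsg.alphaCore M)).map (Cfsg.alphaCore M).subtype with hP'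
  have hP'p : IsPGroup q P' := P.isPGroup'.map _
  have hP'A : P' ≤ Cfsg.alphaCore M := map_subtype_le _
  -- `X` centralizes it
  have hXc : X ≤ centralizer (P' : Set G) := by
    refine Stab.le_centralizer_of_fix_prime_order_in_centralizer
      (minSimple_prime_ne_two hG ?_) hP'p hEP hE.1 hE.2 hXP ?_ fun x hx hxp => ?_
    · obtain ⟨n, hn⟩ := IsPGroup.iff_card.1 hEp
      refine (hn ▸ dvd_pow_self q fun h0 => ?_).trans (card_subgroup_dvd_card E)
      rw [hn, h0, pow_zero] at hE2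
      exact (Nat.one_lt_pow two_ne_zero hq.one_lt).not_ge hE2
    · exact Nat.Coprime.symm ((hq.coprime_iff_not_dvd).2 fun h => hXα q hq h hqα)
    · have hxE : x ∈ E := by
        have hB : Cfsg.IsElementaryAbelian q (E ⊔ zpowers x : Subgroup G) :=
          PLocal.isElementaryAbelian_sup hE (PLocal.isElementaryAbelian_zpowers hxp)
            (le_centralizer_iff.1 (zpowers_le.2 hx.2))
        have h2 : Nat.card ↥(E ⊔ zpowers x) ≤ q ^ 2 := by
          obtain ⟨n, hn⟩ := BG4.card_elementary_eq_pow hB.2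
          by_contra hcon
          rw [hn] at hcon
          refine not_rankLE_of_le (p := q) (k := 2)
            (sup_le (le_centralizer_iff_isMulCommutative.2 hE.1) (zpowers_le.2 hx.2)) hB ?_ hbig
          rw [hn]
          exact Nat.pow_le_pow_right hq.pos
            ((Nat.pow_lt_pow_iff_right hq.one_lt).1 (not_le.1 hcon))
        exact (eq_of_le_of_card_ge (le_sup_left : E ≤ E ⊔ zpowers x) (h2.trans hE2)).symm ▸
          mem_sup_right (mem_zpowers x)
      exact le_centralizer_iff.1 ((zpowers_le.2 (hEC hxE).2).trans le_rfl) |>.trans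
        (centralizer_le (Set.singleton_subset_iff.2 (mem_zpowers x)))
  have hP'3 : ¬ Cfsg.PRankLE q 2 P' := by
    intro h
    have hS : IsSylowIn q P' M := by
      refine ⟨hP'A.trans (piCoreOf_le _ _), hP'p, fun hd => ?_⟩
      rw [← relIndex_mul_relIndex P' _ M hP'A (piCoreOf_le _ M)] at hd
      rcases hq.dvd_mul.1 hd with h' | h'
      · exact (isSylowIn_map_subtype P).2.2 h'
      · exact (alphaCore_isHall hG hM).1.2.2 q hq hqα h'
    exact hqα.2 (pRankLE_of_sylow hS h)
  have hle : P' ≤ M ⊓ centralizer (X : Set G) :=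
    le_inf (hP'A.trans (piCoreOf_le _ _)) (le_centralizer_iff.1 hXc)
  exact inUniqueMaximal_mono
    (inUniqueMaximal_of_pRank_three hG (ne_top_of_le_ne_top hMne hle) hP'3) hle hMne

/-- BG 10.5: elementary abelian subgroups of order `p²` of `M` are maximal elementary abelian when
`p ∉ σ(M)`. -/
theorem maximal_plane_of_not_sigma (hG : Cfsg.IsMinSimpleOddOrder G) {M : Subgroup G}
    (hM : IsCoatom M) (hr2 : Cfsg.PRankLE p 2 M) {A : Subgroup G} (hAM : A ≤ M)
    (hA : Cfsg.IsElementaryAbelian p A) (hA2 : Nat.card A = p ^ 2) {B : Subgroup G}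
    (hB : Cfsg.IsElementaryAbelian p B) (hAB : A ≤ B) : B = A := by
  by_contra hne
  have hlt : Nat.card A < Nat.card B :=
    Set.ncard_lt_ncard (lt_of_le_of_ne hAB (Ne.symm hne) : A < B) (Set.toFinite _)
  obtain ⟨n, hn⟩ := BG4.card_elementary_eq_pow hB.2
  rw [hA2, hn] at hlt
  have hB3 : p ^ 3 ≤ Nat.card B := hn ▸ Nat.pow_le_pow_right (Fact.out : p.Prime).pos
    ((Nat.pow_lt_pow_iff_right (Fact.out : p.Prime).one_lt).1 hlt)
  have hBU := inUniqueMaximal_elementary hG hB hB3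
  have hAU := inUniqueMaximal_of_centralizes hG hBU
    (hAB.trans (le_centralizer_iff_isMulCommutative.2 hB.1)) (not_rankLE_of_le le_rfl hA hA2.ge)
  obtain ⟨L, hL, hBL⟩ := minSimple_exists_coatom hG (inUniqueMaximal_ne_top hBU)
  rw [inUniqueMaximal_eq hAU hM hAM hL (hAB.trans hBL)] at hBL
  exact not_pRankLE_of_le hBL hB hB3 hr2

/-- BG 10.5: `p` is not ideal. -/
theorem not_isIdealPrime_of_not_sigma (hG : Cfsg.IsMinSimpleOddOrder G) {M : Subgroup G}
    (hM : IsCoatom M) (hr2 : Cfsg.PRankLE p 2 M) (hr1 : ¬ Cfsg.PRankLE p 1 M) :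
    ¬ Cfsg.IsIdealPrime p G := by
  rintro ⟨-, -, h⟩
  obtain ⟨A, hAM, hA, hA2⟩ := exists_elementary_of_not_pRankLE hr1
  have hA2' : Nat.card A = p ^ 2 := by
    refine le_antisymm ?_ hA2
    obtain ⟨n, hn⟩ := BG4.card_elementary_eq_pow hA.2
    by_contra hcon
    rw [hn] at hcon
    exact not_pRankLE_of_le hAM hA (hn ▸ Nat.pow_le_pow_right (Fact.out : p.Prime).pos
      ((Nat.pow_lt_pow_iff_right (Fact.out : p.Prime).one_lt).1 (not_le.1 hcon))) hr2
  obtain ⟨P, hP⟩ := (isPGroup_of_isElementaryAbelian hA).exists_le_sylow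
  obtain ⟨B, -, hB, hAB⟩ := h P A hP hA hA2'
  exact hAB.ne (maximal_plane_of_not_sigma hG hM hr2 hAM hA hA2' hB hAB.le).symm

/-- BG 10.6. -/
theorem rank_two_of_normalizer_le (hG : Cfsg.IsMinSimpleOddOrder G) {M X : Subgroup G}
    (hM : IsCoatom M) (hp : p ∉ Cfsg.sigma M) (hX : Nat.card X = p)
    (hNX : normalizer (X : Set G) ≤ M) :
    (Cfsg.PRankLE p 2 M ∧ ¬ Cfsg.PRankLE p 1 M) ∧ ¬ Cfsg.IsIdealPrime p G ∧
      ∃ A : Subgroup G, Cfsg.IsElementaryAbelian p A ∧ Nat.card A = p ^ 2 ∧ X ≤ A := by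
  have hXp : IsPGroup p X := IsPGroup.of_card (n := 1) (by rw [hX, pow_one])
  have hXM : X ≤ M := le_normalizer.trans hNX
  have hr2 : Cfsg.PRankLE p 2 M := by
    by_contra h
    exact hp (alpha_subset_sigma hG hM ⟨Fact.out, h⟩)
  obtain ⟨P, hXP, hP⟩ := exists_isSylowIn_ge (p := p) hXM hXp
  have hpM : p ∣ Nat.card M := hX ▸ card_dvd_of_le hXM
  have hXe : Cfsg.IsElementaryAbelian p X := by
    haveI : IsCyclic X := isCyclic_of_prime_card hX
    refine ⟨inferInstance, fun a ha => ?_⟩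
    have h := orderOf_dvd_natCard (⟨a, ha⟩ : X)
    rw [hX, Subgroup.orderOf_mk] at h
    exact orderOf_dvd_iff_pow_eq_one.1 h
  have hPnc : ¬ IsCyclic P := by
    intro hc
    haveI := hc
    refine hp (mem_sigma_of_normalizer_le hP hpM (le_trans (fun g hg => ?_) hNX))
    rw [← map_conj_eq_self_iff]
    have hgX : X.map (MulAut.conj g).toMonoidHom ≤ P :=
      (map_mono hXP).trans (map_conj_eq_self_iff.2 hg).le
    have he := eq_of_card_eq_of_isCyclic (C := P)
      (H := (X.map (MulAut.conj g).toMonoidHom).subgroupOf P) (K := X.subgroupOf P)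
      (by rw [Nat.card_congr (subgroupOfEquivOfLe hgX).toEquiv,
        Nat.card_congr (subgroupOfEquivOfLe hXP).toEquiv, card_map_conj])
    rw [← map_subgroupOf_eq_of_le hgX, he, map_subgroupOf_eq_of_le hXP]
  have hr1 : ¬ Cfsg.PRankLE p 1 M := by
    obtain ⟨E, hEP, hE, hE2⟩ := exists_plane_le_of_not_isCyclic hG hP.2.1 hPnc
    exact not_pRankLE_of_le (hEP.trans hP.1) hE hE2
  refine ⟨⟨hr2, hr1⟩, not_isIdealPrime_of_not_sigma hG hM hr2 hr1, ?_⟩
  -- a plane through `X`
  have hP1 : P ≠ ⊥ := by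
    rintro rfl
    exact hPnc inferInstance
  obtain ⟨z, -, hzc, hzo⟩ := BG4.exists_central_orderOf_prime (N := (⊤ : Subgroup P)) hP.2.1 (by
    haveI := (nontrivial_iff_ne_bot P).2 hP1
    exact top_ne_bot)
  have hzp : (z : G) ^ p = 1 := by
    rw [← hzo, ← Subgroup.orderOf_coe, pow_orderOf_eq_one]
  have hzP : ∀ y ∈ P, y * (z : G) = z * y := fun y hy =>
    congrArg Subtype.val (mem_center_iff.1 hzc ⟨y, hy⟩)
  have hbound : ∀ B : Subgroup G, B ≤ M → Cfsg.IsElementaryAbelian p B → Nat.card B ≤ p ^ 2 := by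
    intro B hBM hB
    obtain ⟨n, hn⟩ := BG4.card_elementary_eq_pow hB.2
    by_contra hcon
    rw [hn] at hcon
    exact not_pRankLE_of_le hBM hB (hn ▸ Nat.pow_le_pow_right (Fact.out : p.Prime).pos
      ((Nat.pow_lt_pow_iff_right (Fact.out : p.Prime).one_lt).1 (not_le.1 hcon))) hr2
  by_cases hzX : (z : G) ∈ X
  · obtain ⟨E, hEP, hE, hE2⟩ := exists_plane_le_of_not_isCyclic hG hP.2.1 hPnc
    have hXcE : X ≤ centralizer (E : Set G) := by
      have hXz : X = zpowers (z : G) := (eq_of_le_of_card_ge (zpowers_le.2 hzX)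
        (by rw [Nat.card_zpowers, Subgroup.orderOf_coe, hzo, hX])).symm
      rw [hXz]
      exact zpowers_le.2 (mem_centralizer_iff.2 fun y hy => hzP y (hEP hy))
    have hB := PLocal.isElementaryAbelian_sup hXe hE hXcE
    have hc := hbound _ (sup_le hXM (hEP.trans hP.1)) hB
    exact ⟨X ⊔ E, hB, le_antisymm hc (hE2.trans (card_le_of_le le_sup_right)), le_sup_left⟩
  · have hB := PLocal.isElementaryAbelian_sup hXe (PLocal.isElementaryAbelian_zpowers hzp)
      (fun x hx => mem_centralizer_iff.2 fun y hy => by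
        obtain ⟨i, rfl⟩ := mem_zpowers_iff.1 hy
        exact ((show Commute x (z : G) from hzP x (hXP hx)).zpow_right i).eq.symm)
    refine ⟨X ⊔ zpowers (z : G), hB, le_antisymm
      (hbound _ (sup_le hXM ((zpowers_le.2 z.2).trans hP.1)) hB) ?_, le_sup_left⟩
    have hlt : X < X ⊔ zpowers (z : G) :=
      lt_of_le_of_ne le_sup_left fun h => hzX (h ▸ mem_sup_right (mem_zpowers _))
    have h1 : Nat.card X < Nat.card ↥(X ⊔ zpowers (z : G)) :=
      Set.ncard_lt_ncard hlt (Set.toFinite _)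
    obtain ⟨n, hn⟩ := BG4.card_elementary_eq_pow hB.2
    rw [hX, hn] at h1
    rw [hn]
    exact Nat.pow_le_pow_right (Fact.out : p.Prime).pos
      ((Nat.pow_lt_pow_iff_right (Fact.out : p.Prime).one_lt).1 (by rwa [pow_one] : p ^ 1 < p ^ n))

/-- BG 10.4. -/
theorem exists_center_element_small_fix (hG : Cfsg.IsMinSimpleOddOrder G) {M P : Subgroup G}
    (hM : IsCoatom M) (hpM : p ∣ Nat.card M) (hp : p ∉ Cfsg.sigma M) (hP : IsSylowIn p P M) :
    ∃ x : G, x ∈ P ∧ (∀ y ∈ P, x * y = y * x) ∧ orderOf x = p ∧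
      IsZGroup ↥(Cfsg.alphaCore M ⊓ centralizer ({x} : Set G)) ∧
      ¬ (centralizer ({x} : Set G) ≤ M ∧
        ∀ L : Subgroup G, IsCoatom L → centralizer ({x} : Set G) ≤ L → L = M) := by
  have hP1 : P ≠ ⊥ := by
    rintro rfl
    exact hP.2.2 (by rwa [relIndex_bot_left])
  obtain ⟨z, -, hzc, hzo⟩ := BG4.exists_central_orderOf_prime (N := (⊤ : Subgroup P)) hP.2.1 (by
    haveI := (nontrivial_iff_ne_bot P).2 hP1
    exact top_ne_bot)
  have hzP : ∀ y ∈ P, (z : G) * y = y * z := fun y hy =>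
    (congrArg Subtype.val (mem_center_iff.1 hzc ⟨y, hy⟩)).symm
  set U : G → Prop := fun x => centralizer ({x} : Set G) ≤ M ∧
    ∀ L : Subgroup G, IsCoatom L → centralizer ({x} : Set G) ≤ L → L = M with hU
  obtain ⟨x, hxP, hxc, hxo, hxU⟩ : ∃ x : G, x ∈ P ∧ (∀ y ∈ P, x * y = y * x) ∧ orderOf x = p ∧
      ¬ U x := by
    by_cases hz : U (z : G)
    · obtain ⟨g, hgN, hgM⟩ : ∃ g ∈ normalizer (P : Set G), g ∉ M := SetLike.not_le_iff_exists.1
        fun h => hp (mem_sigma_of_normalizer_le hP hpM h)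
      refine ⟨g * z * g⁻¹, (mem_normalizer_iff.1 hgN _).1 z.2, fun y hy => ?_, ?_, fun h => hgM ?_⟩
      · have h1 := hzP (g⁻¹ * y * g) ((mem_normalizer_iff''.1 hgN y).1 hy)
        calc g * z * g⁻¹ * y = g * (z * (g⁻¹ * y * g)) * g⁻¹ := by group
          _ = y * (g * z * g⁻¹) := by rw [h1]; group
      · rw [show g * z * g⁻¹ = (MulAut.conj g).toMonoidHom (z : G) from rfl,
          orderOf_injective _ (MulAut.conj g).injective, Subgroup.orderOf_coe, hzo]
      · have hc : centralizer ({g * (z : G) * g⁻¹} : Set G) ≤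
            M.map (MulAut.conj g).toMonoidHom := by
          intro c hc
          rw [mem_map_conj_iff]
          refine hz.1 (mem_centralizer_singleton_iff.2 ?_)
          have h1 := mem_centralizer_singleton_iff.1 hc
          calc g⁻¹ * c * g * z = g⁻¹ * (c * (g * z * g⁻¹)) * g := by group
            _ = z * (g⁻¹ * c * g) := by rw [h1]; group
        have := map_conj_eq_self_iff.1 (h.2 _ (isCoatom_map_conj hM g) hc)
        rwa [minSimple_normalizer_coatom hG hM] at this
    · exact ⟨z, z.2, hzP, by rw [Subgroup.orderOf_coe, hzo], hz⟩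
  refine ⟨x, hxP, hxc, hxo, ⟨?_⟩, hxU⟩
  set A := Cfsg.alphaCore M ⊓ centralizer ({x} : Set G) with hA
  intro r hr R
  haveI := Fact.mk hr
  by_contra hRc
  have hRc' : ¬ IsCyclic ↥((R : Subgroup A).map A.subtype) := fun h => hRc (by
    haveI := h
    exact ((R : Subgroup A).equivMapOfInjective A.subtype A.subtype_injective).isCyclic.2 h)
  obtain ⟨E, hER, hE, hE2⟩ := exists_plane_le_of_not_isCyclic hG (R.isPGroup'.map _) hRc'
  have hx1 : x ≠ 1 := fun h => (Fact.out : p.Prime).one_lt.ne (by rw [← hxo, h, orderOf_one])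
  have hcz : centralizer ((zpowers x : Subgroup G) : Set G) = centralizer ({x} : Set G) := by
    refine le_antisymm (centralizer_le (Set.singleton_subset_iff.2 (mem_zpowers x))) ?_
    intro c hc
    refine mem_centralizer_iff.2 fun y hy => ?_
    obtain ⟨i, rfl⟩ := mem_zpowers_iff.1 hy
    exact ((show Commute c x from mem_centralizer_singleton_iff.1 hc).zpow_right i).eq.symm
  have hU' := inUniqueMaximal_centralizer_of_alpha hG hM (zpowers_le.2 (hP.1 hxP))
    (fun q hq hd hα => hp ?_) (fun h => not_rankLE_of_le (p := r) (k := 1)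
      (hcz.symm ▸ hER.trans (map_subtype_le _)) hE hE2 h)
  · have hxt := minSimple_centralizer_singleton_ne_top hG hx1
    rw [hcz] at hU'
    have hL : ∀ L : Subgroup G, IsCoatom L → centralizer ({x} : Set G) ≤ L → L = M :=
      fun L hL hle => inUniqueMaximal_eq hU' hM inf_le_left hL (inf_le_right.trans hle)
    obtain ⟨L, hLc, hCL⟩ := minSimple_exists_coatom hG hxt
    exact hxU ⟨hL L hLc hCL ▸ hCL, hL⟩
  · rw [Nat.card_zpowers, hxo] at hd
    rw [(Nat.prime_dvd_prime_iff_eq hq Fact.out).1 hd] at hα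
    exact alpha_subset_sigma hG hM hα

end CfsgLib.OddOrder
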