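import Cfsg.Agent.OddOrder.BG10.Sigma
import Cfsg.Agent.OddOrder.BG4.RankTwoSolvable
import Cfsg.Agent.Solvable.Hall
import Cfsg.Agent.Transfer.Fusion

/-!
# BG 10.2: the cores `M_α` and `M_σ`

`M_α` and `M_σ` are Hall subgroups of `M` and of `G`, `M_σ ≤ M'`, `M/M_α` has rank at most two and
the image of `M'` in it is nilpotent.
-/

set_option autoImplicit false
set_option linter.style.haveILetI false
set_option linter.unusedSectionVars false

namespace CfsgLib.OddOrder

open Cfsg Subgroup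
open scoped commutatorElement
open CfsgLib.ConjFunctor (IsSylowIn exists_isSylowIn_ge)

variable {G : Type*} [Group G] [Finite G] {p : ℕ} [Fact p.Prime]

theorem minSimple_commutator_eq_top (hG : Cfsg.IsMinSimpleOddOrder G) : commutator G = ⊤ := by
  refine (minSimple_normal_eq_bot_or_top hG inferInstance).resolve_left fun h => ?_
  refine minSimple_not_comm hG ⟨⟨fun a b => ?_⟩⟩
  have h1 : ⁅a, b⁆ ∈ commutator G := commutator_mem_commutator (mem_top a) (mem_top b)
  rw [h, mem_bot] at h1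
  exact commutatorElement_eq_one_iff_mul_comm.1 h1

/-- A Sylow `p`-subgroup of `M` lies in `M'` when `p ∈ σ(M)`. -/
theorem sigma_sylow_le_commutator (hG : Cfsg.IsMinSimpleOddOrder G) {M P : Subgroup G}
    (hM : IsCoatom M) (hp : p ∈ Cfsg.sigma M) (hP : IsSylowIn p P M) : P ≤ ⁅M, M⁆ := by
  let PG : Sylow p G := (sigma_isSylowIn_top hp hP).toSylowTop
  have hc : Transfer.ControlsFusion M (PG : Subgroup G) := by
    intro x hx g hgx
    have hxP : x ∈ P := hx
    by_cases hx1 : x = 1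
    · exact ⟨1, one_mem _, by simp [hx1]⟩
    obtain ⟨m, hm, c, hc, rfl⟩ := sigma_conj_le hG hM hp (X := zpowers x)
      (hP.2.1.to_le (zpowers_le.2 hxP)) (by simpa using hx1) (zpowers_le.2 (hP.1 hxP)) (g := g)
      (by rw [MonoidHom.map_zpowers]; exact zpowers_le.2 (hP.1 hgx))
    refine ⟨m, hm, ?_⟩
    have hcx : x * c = c * x := mem_centralizer_iff.1 hc x (mem_zpowers x)
    symm
    calc m * c * x * (m * c)⁻¹ = m * (c * x) * c⁻¹ * m⁻¹ := by group
      _ = m * x * m⁻¹ := by rw [← hcx]; group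
  have h := Transfer.commutator_inf_eq_of_controlsFusion PG hP.1 hc
  rw [minSimple_commutator_eq_top hG, top_inf_eq] at h
  exact fun x hx => (h.le hx).1

/-- `RankLE` for a quotient by a Hall subgroup. -/
theorem rankLE_two_quotient {M : Subgroup G} (π : Set ℕ) (hπ : Cfsg.alpha M ⊆ π)
    (hall : ∀ r : ℕ, r.Prime → r ∈ π → ¬ r ∣ (Cfsg.piCore π M).index) :
    Cfsg.RankLE 2 (↥M ⧸ Cfsg.piCore π ↥M) := by
  intro r hr
  haveI := Fact.mk hr
  by_cases hrπ : r ∈ π
  · intro A _ hA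
    obtain ⟨n, hn⟩ := BG4.card_elementary_eq_pow (p := r) hA
    have hn0 : n = 0 := by
      by_contra hn0
      refine hall r hr hrπ ?_
      rw [index_eq_card]
      exact (hn ▸ dvd_pow_self r hn0).trans (card_subgroup_dvd_card A)
    rw [hn, hn0, pow_zero]
    exact Nat.one_le_pow _ _ hr.pos
  · refine BG4.pRankLE_quotient_coprime _ (fun h => hrπ (isPiSubgroup_piCore π M r hr h)) ?_
    by_contra hcon
    exact hrπ (hπ ⟨hr, hcon⟩)

/-- In the quotient by `O_π(M)`, `π ⊇ α(M)`, the derived group is nilpotent and is a `π'`-group. -/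
theorem commutator_quotient_nilpotent (hG : Cfsg.IsMinSimpleOddOrder G) {M : Subgroup G}
    (hM : IsCoatom M) {π : Set ℕ} (hπ : Cfsg.alpha M ⊆ π) :
    Group.IsNilpotent ↥(commutator (↥M ⧸ Cfsg.piCore π ↥M)) ∧
      ∀ r : ℕ, r.Prime → r ∈ π → ¬ r ∣ Nat.card ↥(commutator (↥M ⧸ Cfsg.piCore π ↥M)) := by
  haveI := minSimple_coatom_solvable hG hM
  set K := Cfsg.piCore π ↥M with hK
  set f := QuotientGroup.mk' K with hf
  set F := Cfsg.fittingSubgroup (↥M ⧸ K) with hF
  haveI hFn : Group.IsNilpotent F := Solvable.fittingSubgroup_isNilpotent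
  haveI hFc : F.Normal := Solvable.fittingSubgroup_normal
  have hFπ : ∀ r : ℕ, r.Prime → r ∈ π → ¬ r ∣ Nat.card F := by
    intro r hr hrπ hd
    haveI := Fact.mk hr
    obtain ⟨x, hx⟩ := exists_prime_orderOf_dvd_card' r hd
    obtain ⟨S, hS⟩ := (IsPGroup.of_card (p := r) (n := 1)
      (by rw [Nat.card_zpowers, hx, pow_one]) : IsPGroup r (zpowers x)).exists_le_sylow
    haveI : (S : Subgroup F).Characteristic :=
      Sylow.characteristic_of_normal S (Sylow.normal_of_normalizerCondition Group.normalizerCondition_of_isNilpotent S)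
    set N := ((S : Subgroup F).map F.subtype).comap f with hN
    have hNpi : IsPiSubgroup π N := by
      intro t ht htd
      have h1 : Nat.card N = Nat.card K * Nat.card ((S : Subgroup F).map F.subtype) := by
        show Nat.card (QuotientGroup.mk ⁻¹' (((S : Subgroup F).map F.subtype : Subgroup _) :
          Set (↥M ⧸ K))) = _
        rw [Nat.card_congr (QuotientGroup.preimageMkEquivSubgroupProdSet K _), Nat.card_prod]
        rfl
      rw [h1] at htd
      rcases ht.dvd_mul.1 htd with h | h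
      · exact isPiSubgroup_piCore π M t ht h
      · obtain ⟨n, hn⟩ := IsPGroup.iff_card.1 (S.isPGroup'.map F.subtype)
        rw [hn] at h
        rwa [(Nat.prime_dvd_prime_iff_eq ht hr).1 (ht.dvd_of_dvd_pow h)]
    have hle : N ≤ K := le_piCore hNpi
    have hxS : (x : ↥M ⧸ K) ∈ (S : Subgroup F).map F.subtype := ⟨x, hS (mem_zpowers x), rfl⟩
    obtain ⟨y, hy⟩ := QuotientGroup.mk'_surjective K (x : ↥M ⧸ K)
    have hy1 : f y = 1 := (QuotientGroup.eq_one_iff y).2 (hle (show f y ∈ _ from hy ▸ hxS))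
    have : x = 1 := Subtype.ext (hy ▸ hy1)
    rw [this, orderOf_one] at hx
    exact hr.one_lt.ne hx
  have hrank : Cfsg.RankLE 2 F := by
    intro r hr
    haveI := Fact.mk hr
    by_cases hrπ : r ∈ π
    · intro A _ hA
      obtain ⟨n, hn⟩ := BG4.card_elementary_eq_pow (p := r) hA
      have hn0 : n = 0 := by
        by_contra hn0
        exact hFπ r hr hrπ ((hn ▸ dvd_pow_self r hn0).trans (card_subgroup_dvd_card A))
      rw [hn, hn0, pow_zero]
      exact Nat.one_le_pow _ _ hr.pos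
    · refine pRankLE_of_injective' F.subtype F.subtype_injective ?_
      refine BG4.pRankLE_quotient_coprime _ (fun h => hrπ (isPiSubgroup_piCore π M r hr h)) ?_
      by_contra hcon
      exact hrπ (hπ ⟨hr, hcon⟩)
  have hnil := BG4.isNilpotent_commutator_of_rank_two
    ((minSimple_odd_subgroup hG M).of_dvd_nat (card_quotient_dvd_card K)) (Or.inr hrank)
  haveI := hnil
  refine ⟨hnil, fun r hr hrπ hd => hFπ r hr hrπ ?_⟩
  exact hd.trans (card_dvd_of_le (Solvable.le_fittingSubgroup hnil))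

/-- A set of primes between `α(M)` and `σ(M)` has its core a Hall subgroup containing the
corresponding Sylow subgroups. -/
theorem sylow_le_piCoreOf (hG : Cfsg.IsMinSimpleOddOrder G) {M P : Subgroup G} (hM : IsCoatom M)
    {π : Set ℕ} (hα : Cfsg.alpha M ⊆ π) (hσ : π ⊆ Cfsg.sigma M) (hp : p ∈ π)
    (hP : IsSylowIn p P M) : P ≤ Cfsg.piCoreOf π M := by
  have hPc := sigma_sylow_le_commutator hG hM (hσ hp) hP
  rw [← map_subtype_commutator] at hPc
  intro x hx
  obtain ⟨y, hy, rfl⟩ := hPc hx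
  refine ⟨y, ?_, rfl⟩
  set K := Cfsg.piCore π ↥M with hK
  rw [SetLike.mem_coe, ← QuotientGroup.eq_one_iff, ← QuotientGroup.mk'_apply]
  by_contra hne
  have h1 : orderOf (QuotientGroup.mk' K y) ∣ Nat.card ↥(commutator (↥M ⧸ K)) := by
    have hmem : QuotientGroup.mk' K y ∈ commutator (↥M ⧸ K) := by
      have h2 := mem_map_of_mem (QuotientGroup.mk' K) hy
      rw [_root_.commutator_def, Subgroup.map_commutator] at h2
      exact commutator_mono le_top le_top h2
    have h3 := orderOf_dvd_natCard (⟨_, hmem⟩ : commutator (↥M ⧸ K))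
    rwa [Subgroup.orderOf_mk] at h3
  replace hx : (y : G) ∈ P := hx
  obtain ⟨n, hn⟩ := IsPGroup.iff_orderOf.1 hP.2.1 ⟨(y : G), hx⟩
  rw [Subgroup.orderOf_mk, Subgroup.orderOf_coe] at hn
  obtain ⟨j, hj, hjo⟩ := (Nat.dvd_prime_pow Fact.out).1 (hn ▸ orderOf_map_dvd (QuotientGroup.mk' K) y)
  have hj0 : j ≠ 0 := fun h => hne (orderOf_eq_one_iff.1 (by rw [hjo, h, pow_zero]))
  exact (commutator_quotient_nilpotent hG hM hα).2 p Fact.out hp
    ((hjo ▸ dvd_pow_self p hj0).trans h1)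

/-- BG 10.2 (a), (b): for `α(M) ⊆ π ⊆ σ(M)` the core `O_π(M)` is a Hall subgroup of `M` and of
`G`. -/
theorem piCoreOf_isHall (hG : Cfsg.IsMinSimpleOddOrder G) {M : Subgroup G} (hM : IsCoatom M)
    {π : Set ℕ} (hα : Cfsg.alpha M ⊆ π) (hσ : π ⊆ Cfsg.sigma M) :
    Cfsg.IsPiHallOf π (Cfsg.piCoreOf π M) M ∧ Cfsg.IsPiHall π (Cfsg.piCoreOf π M) := by
  refine ⟨⟨piCoreOf_le π M, isPiSubgroup_piCoreOf π M, fun r hr hrπ hd => ?_⟩,
    isPiSubgroup_piCoreOf π M, fun r hr hrπ hd => ?_⟩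
  all_goals
    haveI := Fact.mk hr
    obtain ⟨P, hP⟩ := exists_isSylowIn r M
    have hle := sylow_le_piCoreOf hG hM hα hσ hrπ hP
  · exact hP.2.2 (hd.trans (relIndex_dvd_of_le_left M hle))
  · have h := (sigma_isSylowIn_top (hσ hrπ) hP).2.2
    rw [relIndex_top_right] at h
    exact h (hd.trans (index_dvd_of_le hle))

theorem sigmaCore_eq (M : Subgroup G) : Cfsg.sigmaCore M = Cfsg.piCoreOf (Cfsg.sigma M) M := rfl

theorem alphaCore_eq (M : Subgroup G) : Cfsg.alphaCore M = Cfsg.piCoreOf (Cfsg.alpha M) M := rfl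

/-- `M_σ` is a Hall subgroup of `M` and of `G`. -/
theorem sigmaCore_isHall (hG : Cfsg.IsMinSimpleOddOrder G) {M : Subgroup G} (hM : IsCoatom M) :
    Cfsg.IsPiHallOf (Cfsg.sigma M) (Cfsg.sigmaCore M) M ∧
      Cfsg.IsPiHall (Cfsg.sigma M) (Cfsg.sigmaCore M) :=
  piCoreOf_isHall hG hM (fun _ h => alpha_subset_sigma hG hM h) subset_rfl

/-- `M_α` is a Hall subgroup of `M` and of `G`. -/
theorem alphaCore_isHall (hG : Cfsg.IsMinSimpleOddOrder G) {M : Subgroup G} (hM : IsCoatom M) :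
    Cfsg.IsPiHallOf (Cfsg.alpha M) (Cfsg.alphaCore M) M ∧
      Cfsg.IsPiHall (Cfsg.alpha M) (Cfsg.alphaCore M) :=
  piCoreOf_isHall hG hM subset_rfl fun _ h => alpha_subset_sigma hG hM h

theorem alphaCore_le_sigmaCore (hG : Cfsg.IsMinSimpleOddOrder G) {M : Subgroup G} (hM : IsCoatom M) :
    Cfsg.alphaCore M ≤ Cfsg.sigmaCore M :=
  piCoreOf_mono fun _ h => alpha_subset_sigma hG hM h

/-- Every Sylow `p`-subgroup of `M`, `p ∈ σ(M)`, lies in `M_σ`. -/
theorem sigma_sylow_le_sigmaCore (hG : Cfsg.IsMinSimpleOddOrder G) {M P : Subgroup G}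
    (hM : IsCoatom M) (hp : p ∈ Cfsg.sigma M) (hP : IsSylowIn p P M) : P ≤ Cfsg.sigmaCore M :=
  sylow_le_piCoreOf hG hM (fun _ h => alpha_subset_sigma hG hM h) subset_rfl hp hP

/-- BG 10.2 (c): `M_σ ≤ M'`. -/
theorem sigmaCore_le_commutator (hG : Cfsg.IsMinSimpleOddOrder G) {M : Subgroup G}
    (hM : IsCoatom M) : Cfsg.sigmaCore M ≤ ⁅M, M⁆ := by
  have hle : Cfsg.sigmaCore M ≤ M := piCoreOf_le _ M
  refine relIndex_eq_one.1 (Nat.eq_one_iff_not_exists_prime_dvd.2 fun r hr hd => ?_)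
  haveI := Fact.mk hr
  have hrσ : r ∈ Cfsg.sigma M :=
    isPiSubgroup_piCoreOf (Cfsg.sigma M) M r hr (hd.trans (relIndex_dvd_card _ _))
  obtain ⟨P, hP⟩ := exists_isSylowIn r M
  have hPS := hP.of_le (sigma_sylow_le_sigmaCore hG hM hrσ hP) hle
  exact hPS.2.2 (hd.trans (relIndex_dvd_of_le_left _ (sigma_sylow_le_commutator hG hM hrσ hP)))

/-- BG 10.2 (d), (e). -/
theorem alphaCore_quotient (hG : Cfsg.IsMinSimpleOddOrder G) {M : Subgroup G} (hM : IsCoatom M) :
    Cfsg.RankLE 2 (↥M ⧸ Cfsg.piCore (Cfsg.alpha M) ↥M) ∧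
      Group.IsNilpotent
        ↥((commutator ↥M).map (QuotientGroup.mk' (Cfsg.piCore (Cfsg.alpha M) ↥M))) := by
  refine ⟨rankLE_two_quotient _ subset_rfl fun r hr hrα => ?_, ?_⟩
  · have h := (alphaCore_isHall hG hM).1.2.2 r hr hrα
    rwa [Cfsg.alphaCore, Subgroup.relIndex, Subgroup.subgroupOf,
      comap_map_eq_self_of_injective M.subtype_injective] at h
  · haveI := (commutator_quotient_nilpotent hG hM (subset_rfl : Cfsg.alpha M ⊆ Cfsg.alpha M)).1
    have hle : (commutator ↥M).map (QuotientGroup.mk' (Cfsg.piCore (Cfsg.alpha M) ↥M)) ≤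
        commutator (↥M ⧸ Cfsg.piCore (Cfsg.alpha M) ↥M) := by
      rw [_root_.commutator_def, _root_.commutator_def, Subgroup.map_commutator]
      exact commutator_mono le_top le_top
    exact Group.nilpotent_of_mulEquiv (subgroupOfEquivOfLe hle)

end CfsgLib.OddOrder
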