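import Cfsg.Agent.OddOrder.BG10.PLengthOne
import Cfsg.Agent.S1444

/-!
# The BG 3.6 input of BG 10
-/

set_option autoImplicit false

namespace CfsgLib.OddOrder

universe u

/-- BG 3.6, by S1444. -/
theorem smallFixBound : SmallFixBound.{u} := by
  intro X _ _ _ hodd H R R₀ _ hHall hR hR₀ hR₀p hZ p _
  exact Cfsg.Agent.S1444.result hodd H R R₀ hHall hR hR₀ hR₀p hZ p

end CfsgLib.OddOrder
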