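import Cfsg.Agent.OddOrder.BG9.Uniqueness
import Cfsg.Agent.OddOrder.BG8.PCoreCase

/-!
# BG 10.1: the primes in `σ(M)` and fusion in `M`

`p ∈ σ(M)` means that `M` contains the normalizer of one (hence every) of its Sylow `p`-subgroups.
`sigma_conj_le` is the main property: conjugates of a nontrivial `p`-subgroup `X ≤ M` lying in `M`
are conjugate to `X` under `M C(X)`.
-/

set_option autoImplicit false
set_option linter.style.haveILetI false
set_option linter.unusedSectionVars false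

namespace CfsgLib.OddOrder

open Cfsg Subgroup
open CfsgLib.ConjFunctor (IsSylowIn exists_isSylowIn_ge)

variable {G : Type*} [Group G] [Finite G] {p : ℕ} [Fact p.Prime]

theorem isSylowIn_map_subtype {M : Subgroup G} (P : Sylow p M) :
    IsSylowIn p ((P : Subgroup M).map M.subtype) M := by
  refine ⟨map_subtype_le _, P.isPGroup'.map _, ?_⟩
  rw [Subgroup.relIndex, Subgroup.subgroupOf, comap_map_eq_self_of_injective M.subtype_injective]
  exact P.not_dvd_index

theorem exists_isSylowIn (p : ℕ) [Fact p.Prime] (M : Subgroup G) :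
    ∃ P : Subgroup G, IsSylowIn p P M := by
  obtain ⟨P, -, hP⟩ := exists_isSylowIn_ge (p := p) (bot_le : ⊥ ≤ M) IsPGroup.of_bot
  exact ⟨P, hP⟩

theorem isSylowIn_map_conj {P H : Subgroup G} (hP : IsSylowIn p P H) (g : G) :
    IsSylowIn p (P.map (MulAut.conj g).toMonoidHom) (H.map (MulAut.conj g).toMonoidHom) :=
  hP.cj g

/-- Sylow subgroups of `M` are conjugate under `M`. -/
theorem exists_map_conj_eq {P Q M : Subgroup G} (hP : IsSylowIn p P M) (hQ : IsSylowIn p Q M) :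
    ∃ m ∈ M, Q.map (MulAut.conj m).toMonoidHom = P :=
  hP.exists_cj_eq hQ

/-- Every Sylow `p`-subgroup of `M` has its normalizer in `M` when `p ∈ σ(M)`. -/
theorem sigma_normalizer_le {M P : Subgroup G} (hp : p ∈ Cfsg.sigma M) (hP : IsSylowIn p P M) :
    normalizer (P : Set G) ≤ M := by
  obtain ⟨-, -, Q, hQ⟩ := hp
  obtain ⟨m, hm, e⟩ := exists_map_conj_eq hP (isSylowIn_map_subtype Q)
  rw [← e, ← map_conj_normalizer]
  exact (map_mono hQ).trans (map_conj_eq_self_of_mem hm).le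

/-- For `p ∈ σ(M)` a Sylow `p`-subgroup of `M` is one of `G`. -/
theorem sigma_isSylowIn_top {M P : Subgroup G} (hp : p ∈ Cfsg.sigma M) (hP : IsSylowIn p P M) :
    IsSylowIn p P ⊤ :=
  isSylowIn_top_of_normalizer_le hP (sigma_normalizer_le hp hP)

theorem sigma_sylow_ne_bot {M P : Subgroup G} (hp : p ∈ Cfsg.sigma M) (hP : IsSylowIn p P M) :
    P ≠ ⊥ := by
  intro h
  obtain ⟨-, hd, -⟩ := hp
  refine hP.2.2 ?_
  rwa [h, relIndex_bot_left]

/-- `p ∈ σ(M)` once some Sylow `p`-subgroup of `M` has its normalizer in `M`. -/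
theorem mem_sigma_of_normalizer_le {M P : Subgroup G} (hP : IsSylowIn p P M) (hd : p ∣ Nat.card M)
    (h : normalizer (P : Set G) ≤ M) : p ∈ Cfsg.sigma M := by
  refine ⟨Fact.out, hd, (hP.2.1.comap_subtype (K := M)).toSylow hP.2.2, ?_⟩
  rwa [show ((((hP.2.1.comap_subtype (K := M)).toSylow hP.2.2 : Sylow p M) : Subgroup M).map
    M.subtype) = P from map_subgroupOf_eq_of_le hP.1]

/-- A subgroup of `p`-rank at least three in a maximal subgroup lies in it alone. -/
theorem eq_of_pRank_three (hG : Cfsg.IsMinSimpleOddOrder G) {X M L : Subgroup G}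
    (hX : ¬ Cfsg.PRankLE p 2 X) (hM : IsCoatom M) (hXM : X ≤ M) (hL : IsCoatom L) (hXL : X ≤ L) :
    L = M :=
  inUniqueMaximal_eq (inUniqueMaximal_of_pRank_three hG (ne_top_of_le_ne_top hM.1 hXM) hX)
    hM hXM hL hXL

/-- BG 10.1: `α(M) ⊆ σ(M)`. -/
theorem alpha_subset_sigma (hG : Cfsg.IsMinSimpleOddOrder G) {M : Subgroup G} (hM : IsCoatom M)
    {r : ℕ} (hr : r ∈ Cfsg.alpha M) : r ∈ Cfsg.sigma M := by
  obtain ⟨hr0, hrk⟩ := hr
  haveI := Fact.mk hr0
  obtain ⟨P, hP⟩ := exists_isSylowIn r M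
  have hP3 : ¬ Cfsg.PRankLE r 2 P := fun h => hrk (pRankLE_of_sylow hP h)
  have hne : P ≠ ⊥ := by
    rintro rfl
    exact hP3 fun S _ _ => (card_le_card_group S).trans (by
      rw [card_bot]; exact Nat.one_le_pow _ _ hr0.pos)
  refine mem_sigma_of_normalizer_le hP ?_
    (inUniqueMaximal_normalizer_le hG (inUniqueMaximal_of_pRank_three hG
      (ne_top_of_le_ne_top hM.1 hP.1) hP3) hM hP.1)
  obtain ⟨n, hn⟩ := IsPGroup.iff_card.1 hP.2.1
  have hn0 : n ≠ 0 := fun h => hne (card_eq_one.1 (by rw [hn, h, pow_zero]))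
  exact (hn ▸ dvd_pow_self r hn0).trans (card_dvd_of_le hP.1)

/-- BG 10.1 (b): `M C(X)` controls the conjugates of `X` in `M`. -/
theorem sigma_conj_le (hG : Cfsg.IsMinSimpleOddOrder G) {M : Subgroup G} (hM : IsCoatom M)
    (hp : p ∈ Cfsg.sigma M) {X : Subgroup G} (hXp : IsPGroup p X) (hX1 : X ≠ ⊥) (hXM : X ≤ M)
    {g : G} (hg : X.map (MulAut.conj g).toMonoidHom ≤ M) :
    ∃ m ∈ M, ∃ c ∈ centralizer (X : Set G), g = m * c := by
  generalize hn : Nat.card M - Nat.card X = n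
  induction n using Nat.strong_induction_on generalizing X g with
  | _ n ih =>
  obtain ⟨P, hXP, hP⟩ := exists_isSylowIn_ge (p := p) hXM hXp
  by_cases hXe : X = P
  · subst hXe
    have hQ : IsSylowIn p (X.map (MulAut.conj g).toMonoidHom) M :=
      ⟨hg, hXp.map _, by
        obtain ⟨Q, hgQ, hQ⟩ := exists_isSylowIn_ge (p := p) hg (hXp.map _)
        rw [eq_of_le_of_card_ge hgQ (by rw [card_map_conj, hP.card_eq hQ])]
        exact hQ.2.2⟩
    obtain ⟨m, hm, e⟩ := exists_map_conj_eq hP hQ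
    rw [map_conj_map_conj] at e
    have h1 : m * g ∈ M := sigma_normalizer_le hp hP (map_conj_eq_self_iff.1 e)
    refine ⟨g, ?_, 1, one_mem _, (mul_one g).symm⟩
    simpa using M.mul_mem (M.inv_mem hm) h1
  -- Sylow subgroups of normalizers of nontrivial subgroups, inside `M`
  have hstep : ∀ Y : Subgroup G, Y ≤ M → IsPGroup p Y → Nat.card Y = Nat.card X →
      ∃ S : Subgroup G, IsSylowIn p S (normalizer (Y : Set G)) ∧ Y < S ∧ S ≤ M := by
    intro Y hYM hYp hYc
    obtain ⟨PY, hYPY, hPY⟩ := exists_isSylowIn_ge (p := p) hYM hYp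
    have hne : Y ≠ PY := fun h => hXe (eq_of_le_of_card_ge hXP
      (by rw [← hYc, h, hP.card_eq hPY]))
    set R := normalizer (Y : Set G) ⊓ PY with hR
    have hlt : Y < R := lt_normalizer_inf_of_lt hPY.2.1 (lt_of_le_of_ne hYPY hne)
    have hRp : IsPGroup p R := hPY.2.1.to_le inf_le_right
    have hRM : R ≤ M := inf_le_right.trans hPY.1
    obtain ⟨S₀, hRS₀, hS₀⟩ := exists_isSylowIn_ge (p := p)
      (inf_le_left : R ≤ normalizer (Y : Set G)) hRp
    obtain ⟨PG, hPG⟩ := exists_isSylowIn p M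
    obtain ⟨a, -, ha⟩ := (sigma_isSylowIn_top hp hPG).exists_cj_le le_top hS₀.2.1
    have haS : S₀.map (MulAut.conj a).toMonoidHom ≤ M := le_trans ha hPG.1
    have h1 : Nat.card X < Nat.card R := hYc ▸ Set.ncard_lt_ncard hlt (Set.toFinite _)
    have h2 : Nat.card R ≤ Nat.card M := card_le_of_le hRM
    obtain ⟨m, hm, c, hc, rfl⟩ := ih (Nat.card M - Nat.card R) (by omega) hRp
      (ne_bot_of_gt hlt) hRM ((map_mono hRS₀).trans haS) rfl
    have hcY : c ∈ normalizer (Y : Set G) :=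
      centralizer_le_normalizer _ (centralizer_le hlt.le hc)
    refine ⟨S₀.map (MulAut.conj c).toMonoidHom, ?_, ?_, ?_⟩
    · have := isSylowIn_map_conj hS₀ c
      rwa [map_conj_eq_self_of_mem hcY] at this
    · refine lt_of_lt_of_le hlt fun x hx => mem_map_conj_iff.2 ?_
      rw [show c⁻¹ * x * c = x by
        rw [mul_assoc, mem_centralizer_iff.1 hc x hx, inv_mul_cancel_left]]
      exact hRS₀ hx
    · rw [← map_conj_map_conj] at haS
      have h := map_mono (f := (MulAut.conj m⁻¹).toMonoidHom) haS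
      rwa [map_conj_map_conj, inv_mul_cancel, map_conj_one,
        map_conj_eq_self_of_mem (M.inv_mem hm)] at h
  -- the normalizer of such a subgroup
  have hnorm : ∀ Y : Subgroup G, Y ≤ M → IsPGroup p Y → Nat.card Y = Nat.card X →
      ∀ h ∈ normalizer (Y : Set G), ∃ m ∈ M, ∃ c ∈ centralizer (Y : Set G), h = m * c := by
    intro Y hYM hYp hYc h hh
    obtain ⟨S, hS, hlt, hSM⟩ := hstep Y hYM hYp hYc
    have hY1 : Y ≠ ⊥ := fun e => hX1 (card_eq_one.1 (by rw [← hYc, e, card_bot]))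
    have hHt := minSimple_normalizer_ne_top hG hY1 (minSimple_ne_top_of_isPGroup hG hYp)
    by_cases hr : Cfsg.PRankLE p 2 S
    · have hp2 : p ≠ 2 := minSimple_prime_ne_two_subgroup hG hp.2.1
      have hsol := minSimple_solvable hG hHt
      obtain ⟨T, hTS, -, hfac, hTmax, -⟩ := exists_pPrimePCore_part hsol hS
      have hT : T = S := le_antisymm hTS (hTmax S le_rfl (subgroupOf_le_pPrimePCore_of_rank_two hsol
        (minSimple_odd_subgroup hG _) hp2 hS hr))
      subst hT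
      set O := Cfsg.piCoreOf (Cfsg.primesNotDvd p) (normalizer (Y : Set G)) with hO
      have hOC : O ≤ centralizer (Y : Set G) := le_centralizer_of_normalize
        (piCoreOf_le _ _) (le_normalizer.trans (le_normalizer_piCoreOf _ _))
        ((inf_comm O Y).trans (inf_eq_bot_pPrime hYp
          (isPiSubgroup_primesNotDvd_iff.1 (isPiSubgroup_piCoreOf _ _))))
      have hh' := hfac hh
      rw [sup_comm, ← SetLike.mem_coe, coe_mul_of_left_le_normalizer_right _ _
        (inf_le_left.trans (le_normalizer_piCoreOf _ _))] at hh'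
      obtain ⟨k, hk, o, ho, rfl⟩ := Set.mem_mul.1 hh'
      have h1 : Nat.card X < Nat.card T := hYc ▸ Set.ncard_lt_ncard hlt (Set.toFinite _)
      have h2 : Nat.card T ≤ Nat.card M := card_le_of_le hSM
      obtain ⟨m, hm, c, hc, rfl⟩ := ih (Nat.card M - Nat.card T) (by omega) hS.2.1
        (ne_bot_of_gt hlt) hSM (g := k) ((map_conj_eq_self_iff.2 hk.2).le.trans hSM) rfl
      exact ⟨m, hm, c * o, mul_mem (centralizer_le hlt.le hc) (hOC ho), mul_assoc m c o⟩
    · obtain ⟨L, hL, hHL⟩ := minSimple_exists_coatom hG hHt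
      have hLM := eq_of_pRank_three hG hr hM hSM hL (hS.1.trans hHL)
      exact ⟨h, hLM ▸ hHL hh, 1, one_mem _, (mul_one h).symm⟩
  set X' := X.map (MulAut.conj g).toMonoidHom with hX'
  obtain ⟨S, hS, hlt, hSM⟩ := hstep X hXM hXp rfl
  obtain ⟨S', hS', -, hS'M⟩ := hstep X' hg (hXp.map _) (card_map_conj X g)
  have hSg : IsSylowIn p (S.map (MulAut.conj g).toMonoidHom) (normalizer (X' : Set G)) := by
    rw [hX', ← map_conj_normalizer]
    exact isSylowIn_map_conj hS g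
  obtain ⟨h, hh, e⟩ := exists_map_conj_eq hSg hS'
  -- `h⁻¹ g` carries `S` into `M`
  have he : S.map (MulAut.conj (h⁻¹ * g)).toMonoidHom = S' := by
    rw [← map_conj_map_conj, ← e, map_conj_map_conj, inv_mul_cancel, map_conj_one]
  have h1 : Nat.card X < Nat.card S := Set.ncard_lt_ncard hlt (Set.toFinite _)
  have h2 : Nat.card S ≤ Nat.card M := card_le_of_le hSM
  obtain ⟨m₁, hm₁, c₁, hc₁, hg'⟩ := ih (Nat.card M - Nat.card S) (by omega) hS.2.1
    (ne_bot_of_gt hlt) hSM (he.le.trans hS'M) rfl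
  obtain ⟨m₂, hm₂, c₂, hc₂, hh'⟩ := hnorm X' hg (hXp.map _) (card_map_conj X g) h hh
  have hc₁X : c₁ ∈ centralizer (X : Set G) := centralizer_le hlt.le hc₁
  have hfix : X'.map (MulAut.conj (m₁⁻¹)).toMonoidHom = X := by
    have hm₁' : m₁⁻¹ = c₁ * g⁻¹ * h := by
      rw [show g = h * (m₁ * c₁) by rw [← hg', mul_inv_cancel_left]]; group
    rw [hm₁', ← map_conj_map_conj, map_conj_eq_self_iff.2 hh, hX', map_conj_map_conj,
      inv_mul_cancel_right, map_conj_eq_self_iff.2 (centralizer_le_normalizer _ hc₁X)]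
  have hc₂' : m₁⁻¹ * c₂ * m₁ ∈ centralizer (X : Set G) := by
    rw [← hfix, mem_centralizer_iff]
    intro x hx
    obtain ⟨y, hy, rfl⟩ := hx
    have hyc : y * c₂ = c₂ * y := mem_centralizer_iff.1 hc₂ y hy
    show m₁⁻¹ * y * (m₁⁻¹)⁻¹ * (m₁⁻¹ * c₂ * m₁) = m₁⁻¹ * c₂ * m₁ * (m₁⁻¹ * y * (m₁⁻¹)⁻¹)
    calc m₁⁻¹ * y * (m₁⁻¹)⁻¹ * (m₁⁻¹ * c₂ * m₁) = m₁⁻¹ * (y * c₂) * m₁ := by group
      _ = m₁⁻¹ * c₂ * m₁ * (m₁⁻¹ * y * (m₁⁻¹)⁻¹) := by rw [hyc]; group
  refine ⟨m₂ * m₁, mul_mem hm₂ hm₁, m₁⁻¹ * c₂ * m₁ * c₁, mul_mem hc₂' hc₁X, ?_⟩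
  rw [show g = h * (m₁ * c₁) by rw [← hg', mul_inv_cancel_left], hh']
  group

/-- BG 10.1 (a): `N(X) = N_M(X) C(X)`. -/
theorem sigma_normalizer_eq (hG : Cfsg.IsMinSimpleOddOrder G) {M : Subgroup G} (hM : IsCoatom M)
    (hp : p ∈ Cfsg.sigma M) {X : Subgroup G} (hXp : IsPGroup p X) (hX1 : X ≠ ⊥) (hXM : X ≤ M) :
    normalizer (X : Set G) = (M ⊓ normalizer (X : Set G)) ⊔ centralizer (X : Set G) := by
  refine le_antisymm (fun g hg => ?_) (sup_le inf_le_right (centralizer_le_normalizer _))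
  obtain ⟨m, hm, c, hc, rfl⟩ :=
    sigma_conj_le hG hM hp hXp hX1 hXM (g := g) ((map_conj_eq_self_iff.2 hg).le.trans hXM)
  refine mul_mem (mem_sup_left ⟨hm, ?_⟩) (mem_sup_right hc)
  have := mul_mem hg (inv_mem (centralizer_le_normalizer _ hc))
  simpa using this

end CfsgLib.OddOrder
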